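import Groth.Agent.SSMod.K755.Plan4
import Groth.Agent.SSMod.K971.Basic
import Groth.Agent.SSMod.K122.ValBase

/-!
# The contraction does not change the generic fibre (node ETAY)

`σ : X ⟶ Y` over `V` with `σ_* O_X = O_Y` and `f = σ ≫ g` an isomorphism on generic fibres: so are `g` and `σ`.
-/

set_option autoImplicit false
universe u
open CategoryTheory CategoryTheory.Limits AlgebraicGeometry TopologicalSpace

namespace K342.EtaY

/-- A quasi-compact morphism `σ` with `O_Y ⟶ σ_* O_X` injective has trivial kernel. -/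
theorem dominant_of_injective_app {X Y : Scheme.{u}} (σ : X ⟶ Y) [QuasiCompact σ]
    (h : ∀ U : Y.affineOpens, Function.Injective (σ.app U)) : IsSchemeTheoreticallyDominant σ := by
  refine ⟨Scheme.IdealSheafData.ext (funext fun U => ?_)⟩
  rw [Scheme.Hom.ker_apply]
  simpa [← RingHom.injective_iff_ker_eq_bot] using h U

/-- `σ ≫ g` an isomorphism, `g` separated and `σ` schematically dominant: then `σ` is an isomorphism. -/
theorem isIso_left {X Y Z : Scheme.{u}} (σ : X ⟶ Y) (g : Y ⟶ Z) [IsSeparated g] [IsIso (σ ≫ g)]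
    [IsSchemeTheoreticallyDominant σ] : IsIso σ := by
  have h1 : IsClosedImmersion σ := IsClosedImmersion.of_comp σ g
  exact IsClosedImmersion.isIso_iff_ker_eq_bot.mpr σ.ker_eq_bot

section

variable {S V X Y : Scheme.{u}} [IsIntegral S] (φ : V ⟶ S) (σ : X ⟶ Y) (g : Y ⟶ V)

/-- The core: over any flat `T ⟶ V` lying over the generic point. -/
theorem isIso_of_isPullback [IsSeparated g] [QuasiCompact σ] [IsSchemeTheoreticallyDominant σ]
    (h : SSMod.IsEtaIso φ (σ ≫ g)) {T XT YT : Scheme.{u}} {t : T ⟶ V} [Flat t]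
    (a : T ⟶ Spec (S.presheaf.stalk (genericPoint S)))
    (ha : t ≫ φ = a ≫ S.fromSpecStalk (genericPoint S)) {y : YT ⟶ Y} {gT : YT ⟶ T}
    (sqg : IsPullback y gT g t) {x : XT ⟶ X} {σT : XT ⟶ YT} (sqσ : IsPullback x σT σ y) :
    IsIso σT ∧ IsIso gT := by
  have h1 : IsIso (σT ≫ gT) :=
    K971.SSBasic.isIso_of_isEtaIso h (sqσ.flip.paste_horiz sqg.flip).flip a ha
  have h2 : IsSeparated gT := MorphismProperty.of_isPullback sqg ‹_›
  have h3 : Flat y := MorphismProperty.of_isPullback sqg.flip ‹_›
  have h4 : IsSchemeTheoreticallyDominant σT := .of_isPullback sqσ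
  have h5 : IsIso σT := isIso_left σT gT
  exact ⟨h5, IsIso.of_isIso_comp_left σT gT⟩

theorem flat_generic : Flat (pullback.fst φ (S.fromSpecStalk (genericPoint S))) := by
  have : Flat (S.fromSpecStalk (genericPoint S)) := K263.EtaRed.flat_fromSpecStalk S _
  infer_instance

end

/-- **ETAY**. -/
theorem main : K755.SSPlan.EtaY.{u} := by
  intro R _ _ _ V X Y φ _ f σ g hC hf hX
  obtain ⟨rfl, hσ, hg, hfl, hfp, hiso⟩ := hC
  let S := Spec (CommRingCat.of R)
  let s := S.fromSpecStalk (genericPoint S)
  have hdom : IsSchemeTheoreticallyDominant σ :=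
    dominant_of_injective_app σ fun U => by
      have := hiso U
      exact (ConcreteCategory.bijective_of_isIso (σ.app U)).1
  let v : pullback φ s ⟶ V := pullback.fst φ s
  let a : pullback φ s ⟶ Spec (S.presheaf.stalk (genericPoint S)) := pullback.snd φ s
  have ha : v ≫ φ = a ≫ s := pullback.condition
  have hv : Flat v := flat_generic φ
  have sqg : IsPullback (pullback.fst g v) (pullback.snd g v) g v := IsPullback.of_hasPullback g v
  have sqσ : IsPullback (pullback.fst σ (pullback.fst g v)) (pullback.snd σ (pullback.fst g v)) σ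
    (pullback.fst g v) := IsPullback.of_hasPullback _ _
  obtain ⟨i1, i2⟩ := isIso_of_isPullback φ σ g hf a ha sqg sqσ
  have sqv : IsPullback v a φ s := IsPullback.of_hasPullback φ s
  have sqY : IsPullback (pullback.fst g v) (pullback.snd g v ≫ a) (g ≫ φ) s :=
    (sqg.flip.paste_horiz sqv.flip).flip
  have sqX : IsPullback (pullback.fst σ (pullback.fst g v))
      (pullback.snd σ (pullback.fst g v) ≫ pullback.snd g v ≫ a) (σ ≫ g ≫ φ) s :=
    (sqσ.flip.paste_horiz sqY.flip).flip
  refine ⟨i2, ?_, ?_⟩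
  · apply K971.SSBasic.isEtaIso_of_forall
    intro T P p q t sq b hb
    have e1 : t ≫ g ≫ φ = b ≫ s := hb
    let l : T ⟶ pullback g v := sqY.lift t b e1
    have hl : l ≫ pullback.fst g v = t := sqY.lift_fst _ _ _
    rw [← hl] at sq
    exact (MorphismProperty.isomorphisms Scheme.{u}).of_isPullback (IsPullback.of_right' sq sqσ) i1
  · have e2 : Cyc.HasRelDim (pullback.snd σ (pullback.fst g v) ≫ pullback.snd g v ≫ a) 1 := by
      have hft : LocallyOfFiniteType (σ ≫ g ≫ φ) := inferInstance
      refine K970.BCHyp.hasRelDim_of_isPullback sqX ?_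
      rw [← Category.assoc]
      exact hX
    have e3 : Cyc.HasRelDim (pullback.snd g v ≫ a) 1 := by
      have hft : LocallyOfFiniteType (pullback.snd σ (pullback.fst g v) ≫ pullback.snd g v ≫ a) :=
        MorphismProperty.of_isPullback (P := @LocallyOfFiniteType) sqX inferInstance
      have sq1 : IsPullback (inv (pullback.snd σ (pullback.fst g v))) (pullback.snd g v ≫ a)
          (pullback.snd σ (pullback.fst g v) ≫ pullback.snd g v ≫ a) (𝟙 _) :=
        IsPullback.of_horiz_isIso ⟨by simp⟩
      exact K970.BCHyp.hasRelDim_of_isPullback sq1 e2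
    exact K122.ValBase.hasRelDim_of_isPullback (g ≫ φ) sqY e3

end K342.EtaY
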