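import Groth.Agent.SSMod.K342.Cons
import Groth.Agent.SSMod.K971.BaseChange
import Groth.Agent.S1594

/-!
# Fibres over points and geometric fibres
-/

set_option autoImplicit false
set_option linter.unusedVariables false
universe u
open CategoryTheory AlgebraicGeometry CategoryTheory.Limits Topology TopologicalSpace

namespace K342.Fib

open K342.Dich K342.Dat K342.FlatDich K342.Model K342.ExcDich K342.Cons K342.GComp

/-- The identity base change. -/
def BC.id {S : Scheme.{u}} (d : Dat S) : BC (𝟙 S) d d where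
  a := 𝟙 _
  b := 𝟙 _
  c := 𝟙 _
  sqC := IsPullback.of_horiz_isIso ⟨by simp⟩
  sqY := IsPullback.of_horiz_isIso ⟨by simp⟩
  sqD := IsPullback.of_horiz_isIso ⟨by simp⟩

theorem BC.isIso_b {S : Scheme.{u}} {d d' : Dat S} (e : BC (𝟙 S) d' d) : IsIso e.b :=
  e.sqq.isIso_fst_of_isIso

theorem hasExc_of_iso {Ω : Type u} [Field Ω] {d d' : Dat (Spec (CommRingCat.of Ω))}
    (e : BC (𝟙 _) d' d) [LocallyOfFinitePresentation (d.f ≫ d.φ)] [Flat (d.f ≫ d.φ)]
    (h : HasExc Ω d') : HasExc Ω d := by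
  obtain ⟨Z, hZ, hexc⟩ := h
  have hb := BC.isIso_b e
  let h1 := Scheme.homeoOfIso (asIso e.b)
  have hb' : ∀ x, h1 x = e.b x := fun x => rfl
  have h2 : Z = e.b ⁻¹' (e.b '' Z) := (Set.preimage_image_eq Z h1.injective).symm
  rw [h2] at hexc
  have h3 := (isExcComp_iff d (𝟙 _) e (e.b '' Z)).1 hexc
  have h4 := (isExcComp_iff d (𝟙 _) (BC.id d) (e.b '' Z)).2 h3
  refine ⟨e.b '' Z, ?_, ?_⟩
  · have h5 : (h1 '' Z) ∈ irreducibleComponents (d.Y : Type u) := by
      refine ⟨hZ.prop.image _ h1.continuous.continuousOn, fun Z' hZ' hle => ?_⟩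
      have h6 : IsIrreducible (h1 ⁻¹' Z') := by
        have := hZ'.image h1.symm h1.symm.continuous.continuousOn
        rwa [h1.image_symm] at this
      have h7 := hZ.le_of_ge h6 (by
        intro z hz
        exact hle ⟨z, hz, rfl⟩)
      intro y hy
      refine ⟨h1.symm y, h7 ?_, h1.apply_symm_apply y⟩
      change h1 (h1.symm y) ∈ Z'
      rw [h1.apply_symm_apply]
      exact hy
    exact h5
  · exact h4

variable {S C D C' D' : Scheme.{u}} (φ : C ⟶ S) (i' : D' ⟶ C') (fC : C' ⟶ C)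

/-- The data attached to a modification. -/
abbrev dat : Dat S := ⟨C, C', D', φ, fC, i'⟩

theorem exists_factor {s : S} {Ω : Type u} [Field Ω] (g : Spec (CommRingCat.of Ω) ⟶ S)
    (hg : g (IsLocalRing.closedPoint Ω) = s) :
    ∃ ψ : Spec (CommRingCat.of Ω) ⟶ Spec (S.residueField s), ψ ≫ S.fromSpecResidueField s = g := by
  subst hg
  exact ⟨Spec.map (Scheme.descResidueField (Scheme.stalkClosedPointTo g)),
    Scheme.descResidueField_stalkClosedPointTo_fromSpecResidueField Ω S g⟩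

theorem range_eq_iff {s : S} {Ω : Type u} [Field Ω] (g : Spec (CommRingCat.of Ω) ⟶ S) :
    Set.range (g.base : Spec (CommRingCat.of Ω) → S) ⊆ {s} ↔
      g (IsLocalRing.closedPoint Ω) = s := by
  constructor
  · intro h
    exact h ⟨_, rfl⟩
  · rintro rfl _ ⟨x, rfl⟩
    exact congrArg g (Subsingleton.elim (α := PrimeSpectrum Ω) _ _)

theorem set_eq (hC' : SSMod.IsMPCurve (fC ≫ φ) i') :
    {s : S |
      SSMod.IsSemistable (pullback.snd (fC ≫ φ) (S.fromSpecResidueField s))
          (CInt.baseChangeOver i' (fC ≫ φ) (S.fromSpecResidueField s)) ∧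
        ∀ (Ω : Type u) [Field Ω] [IsAlgClosed Ω] (g : Spec (CommRingCat.of Ω) ⟶ S),
          Set.range (g.base : Spec (CommRingCat.of Ω) → S) ⊆ {s} →
            ∀ Z ∈ irreducibleComponents (↥(pullback (fC ≫ φ) g) : Type u),
              ¬ SSMod.IsExcComp Ω (CInt.baseChangeOver fC φ g) (pullback.snd (fC ≫ φ) g)
                  ((pullback.fst (fC ≫ φ) g).base ⁻¹' Set.range (i'.base : D' → C')) Z} =
      E (dat φ i' fC) := by
  have hflat : Flat (fC ≫ φ) := hC'.1
  have hlfp : LocallyOfFinitePresentation (fC ≫ φ) := hC'.2.1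
  let d := dat φ i' fC
  ext s
  constructor
  · rintro ⟨h1, h2⟩ Ω _ _ g hg d' ⟨e⟩
    obtain ⟨ψ, hψ⟩ := exists_factor g hg
    let k := S.fromSpecResidueField s
    have hE : BC (ψ ≫ k) d' d := hψ ▸ e
    obtain ⟨e', -⟩ := (d.bcBC k).exists_lift hE
    have h1' : SSMod.IsSemistable ((d.bc k).f ≫ (d.bc k).φ) (d.bc k).i := by
      rw [Dat.bc_snd]
      exact h1
    have h3 := K971.SSBaseChange.isSemistable_of_isPullback h1' e'.sqq e'.sqD
    refine ⟨h3.2.1, ?_, h3.2.2.2, ?_⟩
    · have h4 := h3.2.2.1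
      exact (inferInstance : FormallyUnramified (d'.i ≫ d'.f ≫ d'.φ))
    · intro h4
      have hE2 : BC (𝟙 _ ≫ g) d' d := (Category.id_comp g).symm ▸ e
      obtain ⟨e2, -⟩ := (d.bcBC g).exists_lift hE2
      have i1 : Flat ((d.bc g).f ≫ (d.bc g).φ) :=
        MorphismProperty.of_isPullback (d.bcBC g).sqq hflat
      have i2 : LocallyOfFinitePresentation ((d.bc g).f ≫ (d.bc g).φ) :=
        MorphismProperty.of_isPullback (d.bcBC g).sqq hlfp
      obtain ⟨Z, hZ, hexc⟩ := hasExc_of_iso e2 h4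
      refine h2 Ω g ((range_eq_iff g).2 hg) Z hZ ?_
      rw [Dat.bc_snd, range_snd (d.bcBC g).sqD] at hexc
      exact hexc
  · intro h
    refine ⟨?_, ?_⟩
    · obtain ⟨Ω, _, _, g, hg⟩ := exists_geom s
      obtain ⟨ψ, hψ⟩ := exists_factor g hg
      have hP := h Ω g hg
      let k := S.fromSpecResidueField s
      let ek : BC k (d.bc k) d := d.bcBC k
      have hmp : SSMod.IsMPCurve ((d.bc k).f ≫ (d.bc k).φ) (d.bc k).i :=
        K971.SSBaseChange.isMPCurve_of_isPullback hC' ek.sqq ek.sqD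
      let eψ : BC ψ ((d.bc k).bc ψ) (d.bc k) := (d.bc k).bcBC ψ
      have eg : BC g ((d.bc k).bc ψ) d := hψ ▸ eψ.comp ek
      have h0 := hP _ ⟨eg⟩
      have j1 : Surjective ψ := inferInstance
      have j2 : Flat ψ := inferInstance
      have j3 : QuasiCompact ψ := inferInstance
      have hs : SSMod.IsSemistable ((d.bc k).f ≫ (d.bc k).φ) (d.bc k).i := by
        refine ⟨hmp, ?_, ?_, ?_⟩
        · refine Groth.Agent.S1594.result _ ψ ?_
          rw [← Dat.bc_snd]
          exact h0.nodal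
        · have h3 : FormallyUnramified ((d.bc k).i ≫ (d.bc k).f ≫ (d.bc k).φ) :=
            (Groth.Agent.Ega43.LocusUnram.fpqcInv_formallyUnramified.iff_of_isPullback
              eψ.sqDD j1 j2 j3).1 h0.unram
          have h4 := hmp.2.2.2.2.2.2.1
          have h5 := hmp.2.2.2.2.2.2.2.1
          exact Etale.iff_flat_and_formallyUnramified.mpr ⟨h4, h3, h5⟩
        · have h6 := hmp.1
          have h7 := hmp.2.1
          have h8 := h0.disj
          rw [range_snd eψ.sqD, nonsmoothPts_preimage eψ.sqq (Or.inl h6)] at h8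
          have h9 : Surjective eψ.b := MorphismProperty.of_isPullback eψ.sqq.flip j1
          rw [Set.disjoint_left] at h8 ⊢
          intro x hx hx'
          obtain ⟨y, rfl⟩ := h9.1 x
          exact h8 hx hx'
      rw [Dat.bc_snd] at hs
      exact hs
    · intro Ω _ _ g hg Z hZ hexc
      refine (h Ω g ((range_eq_iff g).1 hg) (d.bc g) ⟨d.bcBC g⟩).noExc ⟨Z, hZ, ?_⟩
      rw [Dat.bc_snd, range_snd (d.bcBC g).sqD]
      exact hexc

end K342.Fib
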