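import Groth.Agent.SSMod.K342.PreE
import Groth.Agent.CurvesB.FibreBC
import Groth.Agent.CurvesB.NodalDescent
import Groth.Agent.Sga3C.UnramFiber

/-!
# Stability of a modification is a condition on the fibres
-/

set_option autoImplicit false
set_option linter.unusedVariables false
universe u
open CategoryTheory AlgebraicGeometry CategoryTheory.Limits Topology TopologicalSpace

namespace K342.StabE

open K342.Dich K342.Dat K342.FlatDich K342.Model K342.Cons K342.Fib K342.ExcDich K342.GComp

variable {S S' : Scheme.{u}}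

/-- The fibre conditions of a nodal family from a nodal family over the residue field. -/
theorem fibre_nodal {K : Type u} [Field K] {X : Scheme.{u}} (q : X ⟶ Spec (CommRingCat.of K))
    (h : Curv2.IsNodalFamily q) :
    (∀ Z ∈ irreducibleComponents (↥X : Type u), topologicalKrullDim ↥Z = 1) ∧
      @Curv2.AtWorstNodal K _ X ⟨q⟩ := by
  obtain ⟨-, hq, h⟩ := h
  let T := Spec (CommRingCat.of K)
  let s : T := IsLocalRing.closedPoint K
  obtain ⟨h1, h2⟩ := h s
  let a : CommRingCat.of K ⟶ T.residueField s := Spec.preimage (T.fromSpecResidueField s)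
  have ha : Spec.map a = T.fromSpecResidueField s := Spec.map_preimage _
  let _ : Algebra K (T.residueField s) := a.hom.toAlgebra
  have hpb0 : IsPullback (q.fiberι s) (q.fiberToSpecResidueField s) q (T.fromSpecResidueField s) :=
    IsPullback.of_hasPullback _ _
  rw [← ha] at hpb0
  have hpb : IsPullback (q.fiberι s) (q.fiberToSpecResidueField s) q
      (Spec.map (CommRingCat.ofHom (algebraMap K (T.residueField s)))) := hpb0
  have hd := Groth.Agent.CurvesB.FibreBC.dimOne_of_isPullback _ _ _ _ hpb h1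
  refine ⟨hd, ?_⟩
  let i1 : X.Over (Spec (CommRingCat.of K)) := ⟨q⟩
  let i2 : (q.fiber s).Over (Spec (CommRingCat.of (T.residueField s))) :=
    ⟨q.fiberToSpecResidueField s⟩
  exact @Groth.Agent.CurvesB.NodalDescent.atWorstNodal_of_isPullback K (T.residueField s) _ _ _ _ _ i1 i2 _ hpb
    (by assumption) hd h2

/-- The condition holds at all points if and only if the marked curve is semistable and has no
exceptional components. -/
theorem E_eq_univ_iff (d : Dat S) (hmp : SSMod.IsMPCurve (d.f ≫ d.φ) d.i) :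
    E d = Set.univ ↔ SSMod.IsSemistable (d.f ≫ d.φ) d.i ∧ SSMod.NoExcComp d.φ d.i d.f := by
  have hset := set_eq d.φ d.i d.f hmp
  change _ = E d at hset
  constructor
  · intro hE
    rw [hE] at hset
    have h (s : S) := Set.eq_univ_iff_forall.1 hset s
    refine ⟨⟨hmp, ⟨hmp.1, hmp.2.1, fun s => ?_⟩, ?_, ?_⟩, ?_⟩
    · exact fibre_nodal _ (h s).1.2.1
    · have h1 : FormallyUnramified (d.i ≫ d.f ≫ d.φ) := by
        have i1 := hmp.2.2.2.2.2.2.2.1
        refine Groth.Agent.Sga3C.UnramFiber.of_formallyUnramified_fiberToSpecResidueField _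
          fun s => ?_
        have h2 := (h s).1.2.2.1
        rw [baseChangeOver_snd] at h2
        exact (inferInstance : FormallyUnramified (pullback.snd (d.i ≫ d.f ≫ d.φ)
          (S.fromSpecResidueField s)))
      have h4 := hmp.2.2.2.2.2.2.1
      have h5 := hmp.2.2.2.2.2.2.2.1
      exact Etale.iff_flat_and_formallyUnramified.mpr ⟨h4, h1, h5⟩
    · rw [Set.disjoint_left]
      intro x hx hx'
      let k := S.fromSpecResidueField ((d.f ≫ d.φ) x)
      have h6 := hmp.1
      have h7 := hmp.2.1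
      have h8 := (h ((d.f ≫ d.φ) x)).1.2.2.2
      have e := d.bcBC k
      have sq : IsPullback (pullback.fst (d.f ≫ d.φ) k) (pullback.snd (d.f ≫ d.φ) k)
        (d.f ≫ d.φ) k := IsPullback.of_hasPullback _ _
      rw [nonsmoothPts_preimage sq (Or.inl h6)] at h8
      have h9 : Set.range (CInt.baseChangeOver d.i (d.f ≫ d.φ) k) =
          (pullback.fst (d.f ≫ d.φ) k) ⁻¹' Set.range d.i :=
        range_snd (isPullback_baseChangeOver d.i (d.f ≫ d.φ) k)
      obtain ⟨y, hy⟩ : ∃ y, pullback.fst (d.f ≫ d.φ) k y = x :=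
        ⟨(d.f ≫ d.φ).asFiber x, (d.f ≫ d.φ).fiberι_asFiber x⟩
      rw [h9, Set.disjoint_left] at h8
      exact h8 (show pullback.fst (d.f ≫ d.φ) k y ∈ _ by rw [hy]; exact hx)
        (show pullback.fst (d.f ≫ d.φ) k y ∈ _ by rw [hy]; exact hx')
    · intro Ω _ _ g Z hZ hexc
      exact (h (g (IsLocalRing.closedPoint Ω))).2 Ω g ((range_eq_iff g).2 rfl) Z hZ hexc
  · rintro ⟨h1, h2⟩
    rw [← hset, Set.eq_univ_iff_forall]
    intro s
    refine ⟨?_, fun Ω _ _ g _ Z hZ hexc => h2 Ω g Z hZ hexc⟩
    exact K971.SSBaseChange.isSemistable_of_isPullback h1 (IsPullback.of_hasPullback _ _)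
      (isPullback_baseChangeOver d.i (d.f ≫ d.φ) (S.fromSpecResidueField s))

variable {C D C' D' : Scheme.{u}}

/-- A modification is stable if and only if the fibre condition holds at all points. -/
theorem isStableModification_iff (φ : C ⟶ S) (i : D ⟶ C) (i' : D' ⟶ C') (fC : C' ⟶ C)
    (fD : D' ⟶ D) (hm : SSMod.IsMPModification φ i i' fC fD) :
    SSMod.IsStableModification φ i i' fC fD ↔ E (dat φ i' fC) = Set.univ := by
  rw [E_eq_univ_iff (dat φ i' fC) hm.2.1]
  exact ⟨fun h => ⟨h.1.2, h.2⟩, fun h => ⟨⟨hm, h.1⟩, h.2⟩⟩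

/-- Nothing is exceptional for an isomorphism. -/
theorem noExcComp_of_isIso (φ : C ⟶ S) (i' : D' ⟶ C') (fC : C' ⟶ C) [IsIso fC] :
    SSMod.NoExcComp φ i' fC := by
  intro Ω _ _ g Z hZ hexc
  obtain ⟨⟨e, he, he', hr⟩, -, h3⟩ := hexc
  have hiso : IsIso (CInt.baseChangeOver fC φ g) := by
    have sq := isPullback_baseChangeOver fC φ g
    exact sq.isIso_snd_of_isIso
  have hinj : Function.Injective (CInt.baseChangeOver fC φ g) :=
    (CInt.baseChangeOver fC φ g).isOpenEmbedding.injective
  have h4 : Z.Subsingleton := fun x hx y hy => hinj (h3 ⟨x, hx, rfl⟩ ⟨y, hy, rfl⟩)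
  rw [← hr] at h4
  have h5 : Subsingleton (CohB1.ProjSpace 1 Ω) := ⟨fun x y =>
    e.isClosedEmbedding.injective (h4 ⟨x, rfl⟩ ⟨y, rfl⟩)⟩
  have h6 := Groth.Agent.Models.H58.P1Model.topologicalKrullDim_P1 Ω
  have h7 : topologicalKrullDim (CohB1.ProjSpace 1 Ω) ≤ 0 :=
    topologicalKrullDim_zero_of_discreteTopology _
  change topologicalKrullDim (CohB1.ProjSpace 1 Ω) = 1 at h6
  rw [h6] at h7
  exact absurd h7 (by decide)

theorem semistable_congr {φ φ' : C ⟶ S} (h : φ' = φ) (i : D ⟶ C) (t : S' ⟶ S) :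
    SSMod.IsSemistable (pullback.snd φ' t) (CInt.baseChangeOver i φ' t) ↔
      SSMod.IsSemistable (pullback.snd φ t) (CInt.baseChangeOver i φ t) := by
  subst h
  rfl

/-- The condition at the generic point for the identity is semistability of the generic fibre. -/
theorem generic_mem_iff [IsIntegral S] (φ : C ⟶ S) (i : D ⟶ C) (hC : SSMod.IsMPCurve φ i) :
    genericPoint S ∈ E (dat φ i (𝟙 C)) ↔
      SSMod.IsSemistable (pullback.snd φ (S.fromSpecStalk (genericPoint S)))
        (CInt.baseChangeOver i φ (S.fromSpecStalk (genericPoint S))) := by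
  let t := S.fromSpecStalk (genericPoint S)
  let d : Dat S := dat φ i (𝟙 C)
  have hφ : d.f ≫ d.φ = φ := Category.id_comp _
  have hmp : SSMod.IsMPCurve (d.f ≫ d.φ) d.i := hφ.symm ▸ hC
  obtain ⟨-, c2, c3, c4, -, c6, -, c8, -⟩ := hmp
  have hd : FPres d := by
    rw [hφ] at c2 c3 c4
    refine ⟨c2, c3, c4, hφ.symm ▸ c2, hφ.symm ▸ c3, hφ.symm ▸ c4, c8, ?_, ?_⟩
    · have := c3
      have := c6
      rw [hφ]
      infer_instance
    · have := c4
      have := c6
      rw [hφ]
      infer_instance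
  have hp : IsProper d.f := (inferInstance : IsProper (𝟙 C))
  have hE := K342.PreE.preimage_E (d.bcBC t) hd hp c6
  have hmp : SSMod.IsMPCurve (d.f ≫ d.φ) d.i := hφ.symm ▸ hC
  have hmp' : SSMod.IsMPCurve ((d.bc t).f ≫ (d.bc t).φ) (d.bc t).i :=
    K971.SSBaseChange.isMPCurve_of_isPullback hmp (d.bcBC t).sqq (d.bcBC t).sqD
  have hiso : IsIso (d.bc t).f := by
    have hf : IsIso d.f := (inferInstance : IsIso (𝟙 C))
    exact (d.bcBC t).sqY.isIso_snd_of_isIso
  have hsub : ∀ x : Spec (S.presheaf.stalk (genericPoint S)),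
      x = IsLocalRing.closedPoint (S.presheaf.stalk (genericPoint S)) := by
    intro x
    exact Subsingleton.elim (α := PrimeSpectrum S.functionField) _ _
  have h1 : t (IsLocalRing.closedPoint (S.presheaf.stalk (genericPoint S))) = genericPoint S :=
    S.fromSpecStalk_closedPoint
  have h2 : genericPoint S ∈ E d ↔ E (d.bc t) = Set.univ := by
    rw [← hE, Set.eq_univ_iff_forall]
    constructor
    · intro h x
      rw [hsub x, Set.mem_preimage, h1]
      exact h
    · intro h
      have := h (IsLocalRing.closedPoint (S.presheaf.stalk (genericPoint S)))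
      rwa [Set.mem_preimage, h1] at this
  have h3 : SSMod.IsSemistable ((d.bc t).f ≫ (d.bc t).φ) (d.bc t).i ↔
      SSMod.IsSemistable (pullback.snd φ t) (CInt.baseChangeOver i φ t) := by
    rw [Dat.bc_snd]
    exact semistable_congr hφ i t
  rw [← h3]
  refine h2.trans ((E_eq_univ_iff (d.bc t) hmp').trans ⟨fun h => h.1, fun h => ⟨h, ?_⟩⟩)
  exact noExcComp_of_isIso _ _ _

end K342.StabE
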