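import Groth.Agent.SSMod.K342.Dat
import Groth.Agent.ConsProp.K285.Model
import Groth.Agent.FlatMor.K115.MdlProp
import Groth.Agent.ConsPropPair.K286.Desc
import Groth.Agent.Ega43.LimitDescendClosed

/-!
# Noetherian models
-/

set_option autoImplicit false
set_option linter.unusedVariables false
universe u
open CategoryTheory AlgebraicGeometry CategoryTheory.Limits Topology TopologicalSpace

namespace K342.Model

open K342.Dat Groth.Agent Groth.Agent.CalgA.LimFP K115.MdlProp Groth.Agent.Ega43.LimitDescend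

attribute [local instance] Mdl.lfp Mdl.qc Mdl.qs

/-- The finite presentation conditions. -/
structure FPres {S : Scheme.{u}} (d : Dat S) : Prop where
  lfp₁ : LocallyOfFinitePresentation d.φ
  qc₁ : QuasiCompact d.φ
  qs₁ : QuasiSeparated d.φ
  lfp₂ : LocallyOfFinitePresentation (d.f ≫ d.φ)
  qc₂ : QuasiCompact (d.f ≫ d.φ)
  qs₂ : QuasiSeparated (d.f ≫ d.φ)
  lfp₃ : LocallyOfFinitePresentation (d.i ≫ d.f ≫ d.φ)
  qc₃ : QuasiCompact (d.i ≫ d.f ≫ d.φ)
  qs₃ : QuasiSeparated (d.i ≫ d.f ≫ d.φ)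

theorem FPres.bc {S T : Scheme.{u}} {t : T ⟶ S} {d : Dat S} {d' : Dat T} (h : FPres d)
    (e : BC t d' d) : FPres d' where
  lfp₁ := MorphismProperty.of_isPullback e.sqC h.lfp₁
  qc₁ := MorphismProperty.of_isPullback e.sqC h.qc₁
  qs₁ := MorphismProperty.of_isPullback e.sqC h.qs₁
  lfp₂ := MorphismProperty.of_isPullback e.sqq h.lfp₂
  qc₂ := MorphismProperty.of_isPullback e.sqq h.qc₂
  qs₂ := MorphismProperty.of_isPullback e.sqq h.qs₂
  lfp₃ := MorphismProperty.of_isPullback e.sqDD h.lfp₃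
  qc₃ := MorphismProperty.of_isPullback e.sqDD h.qc₃
  qs₃ := MorphismProperty.of_isPullback e.sqDD h.qs₃

section

variable {I : Type u} [SmallCategory I] {D : I ⥤ Scheme.{u}} {c : Cone D}
  [IsCofiltered I] [∀ (i j : I) (f : i ⟶ j), IsAffineHom (D.map f)] (hc : IsLimit c)
  [∀ i, CompactSpace (D.obj i)] [∀ i, QuasiSeparatedSpace (D.obj i)]

include hc in
theorem exists_stage (d : Dat c.pt) (hd : FPres d) (hp : IsProper d.f)
    (hcl : IsClosedImmersion d.i) :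
    ∃ (i : I) (d₀ : Dat (D.obj i)), Good d₀ ∧ Nonempty (BC (c.π.app i) d d₀) := by
  have h1 := hd.lfp₁
  have h2 := hd.qc₁
  have h3 := hd.qs₁
  have h4 := hd.lfp₂
  have h5 := hd.qc₂
  have h6 := hd.qs₂
  have h7 := hd.lfp₃
  have h8 := hd.qc₃
  have h9 := hd.qs₃
  obtain ⟨i1, ⟨N⟩⟩ := K285.Model.exists_mdl hc d.φ
  obtain ⟨i2, ⟨M⟩⟩ := K285.Model.exists_mdl hc (d.f ≫ d.φ)
  obtain ⟨i3, ⟨L⟩⟩ := K285.Model.exists_mdl hc (d.i ≫ d.f ≫ d.φ)
  let j := IsCofiltered.min i1 (IsCofiltered.min i2 i3)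
  let N' := N.bc (IsCofiltered.minToLeft i1 (IsCofiltered.min i2 i3))
  let M' := M.bc (IsCofiltered.minToRight i1 (IsCofiltered.min i2 i3) ≫
    IsCofiltered.minToLeft i2 i3)
  let L' := L.bc (IsCofiltered.minToRight i1 (IsCofiltered.min i2 i3) ≫
    IsCofiltered.minToRight i2 i3)
  obtain ⟨j1, a1, ⟨u1⟩⟩ := M'.exists_hom hc N' d.f rfl
  obtain ⟨j2, a2, ⟨v2⟩⟩ := (L'.bc a1).exists_hom hc (M'.bc a1) d.i rfl
  let u2 := u1.bc a2
  obtain ⟨j3, a3, hu3⟩ := Hom.exists_prop K286.Desc.descendsLim_isProper hc u2 hp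
  obtain ⟨j4, a4, hv4⟩ := Hom.exists_prop Ega43.LimitDescendClosed.descendsLim_isClosedImmersion hc
    (v2.bc a3) hcl
  let u4 := (u2.bc a3).bc a4
  let v4 := (v2.bc a3).bc a4
  have hu4 : IsProper u4.φ := MorphismProperty.of_isPullback ((u2.bc a3).isPullback_bc a4) hu3
  let N4 := (((N'.bc a1).bc a2).bc a3).bc a4
  let M4 := (((M'.bc a1).bc a2).bc a3).bc a4
  let L4 := (((L'.bc a1).bc a2).bc a3).bc a4
  let d₀ : Dat (D.obj j4) := ⟨N4.A, M4.A, L4.A, N4.f, u4.φ, v4.φ⟩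
  have hg : Good d₀ := by
    refine ⟨?_, N4.qc, hu4, hv4⟩
    have := N4.lfp
    exact (inferInstance : LocallyOfFiniteType N4.f)
  exact ⟨j4, d₀, hg, ⟨⟨N4.p, M4.p, L4.p, N4.h, u4.isPullback, v4.isPullback⟩⟩⟩

end

open Groth.Agent.Flat2D.SpecFGLimit

/-- Noetherian models over affine schemes. -/
theorem exists_model (A : CommRingCat.{u}) (d : Dat (Spec A)) (hd : FPres d) (hp : IsProper d.f)
    (hcl : IsClosedImmersion d.i) :
    ∃ (A₀ : CommRingCat.{u}) (_ : IsNoetherianRing A₀) (t : Spec A ⟶ Spec A₀) (d₀ : Dat (Spec A₀)),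
      Good d₀ ∧ Nonempty (BC t d d₀) := by
  have i1 : ∀ i, CompactSpace ((specDiagram A).obj i) := fun i => inferInstance
  have i2 : ∀ i, QuasiSeparatedSpace ((specDiagram A).obj i) := fun i => inferInstance
  obtain ⟨i, d₀, h1, h2⟩ := exists_stage
    (D := specDiagram A) (c := specCone A) (isLimitSpecCone A) d hd hp hcl
  exact ⟨CommRingCat.of i.unop.1, K285.Model.isNoetherianRing_of_fg _ i.unop.2,
    (specCone A).π.app i, d₀, h1, h2⟩

end K342.Model
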