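import Groth.Agent.SSMod.K342.FlatDich
import Groth.Agent.SSMod.K342.Model
import Groth.Agent.ConsProp.K285.Topo

/-!
# Constructibility
-/

set_option autoImplicit false
set_option linter.unusedVariables false
universe u
open CategoryTheory AlgebraicGeometry CategoryTheory.Limits Topology TopologicalSpace

namespace K342.Cons

open K342.Dich K342.Dat K342.FlatDich K342.Model

variable {S T : Scheme.{u}}

/-- The points all of whose geometric points satisfy the condition. -/
def E (d : Dat S) : Set S :=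
  {s | ∀ (Ω : Type u) [Field Ω] [IsAlgClosed Ω] (g : Spec (CommRingCat.of Ω) ⟶ S),
    g (IsLocalRing.closedPoint Ω) = s → P d Ω g}

/-- Every point has a geometric point over it. -/
theorem exists_geom (s : S) : ∃ (Ω : Type u) (_ : Field Ω) (_ : IsAlgClosed Ω)
    (g : Spec (CommRingCat.of Ω) ⟶ S), g (IsLocalRing.closedPoint Ω) = s := by
  refine ⟨AlgebraicClosure (S.residueField s), inferInstance, inferInstance,
    Spec.map (CommRingCat.ofHom (algebraMap (S.residueField s)
      (AlgebraicClosure (S.residueField s)))) ≫ S.fromSpecResidueField s, ?_⟩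
  rw [Scheme.Hom.comp_apply]
  have h1 : S.fromSpecResidueField s (Spec.map (CommRingCat.ofHom (algebraMap (S.residueField s)
      (AlgebraicClosure (S.residueField s)))) (IsLocalRing.closedPoint _)) ∈
      Set.range (S.fromSpecResidueField s) := ⟨_, rfl⟩
  rwa [Scheme.range_fromSpecResidueField] at h1

/-- Dichotomy on integral closed subschemes. -/
theorem exists_open (d : Dat S) (hd : Good d) [IsNoetherian T] [IsIntegral T] (i : T ⟶ S)
    [LocallyOfFiniteType i] : ∃ V : T.Opens, (V : Set T).Nonempty ∧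
      ((∀ (Ω : Type u) [Field Ω] [IsAlgClosed Ω] (g : Spec (CommRingCat.of Ω) ⟶ S),
          g (IsLocalRing.closedPoint Ω) ∈ i '' V → P d Ω g) ∨
        (∀ (Ω : Type u) [Field Ω] [IsAlgClosed Ω] (g : Spec (CommRingCat.of Ω) ⟶ S),
          g (IsLocalRing.closedPoint Ω) ∈ i '' V → ¬ P d Ω g)) := by
  obtain ⟨V, hV, h⟩ := dich (d.bc i) (hd.bc (d.bcBC i))
  refine ⟨V, hV, h.imp (fun h Ω _ _ g hg => ?_) (fun h Ω _ _ g hg => ?_)⟩
  · obtain ⟨v, hv, e⟩ := hg
    obtain ⟨g', hg', hg''⟩ := exists_lift i g e V hv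
    rw [← hg', ← P_bc (d.bcBC i)]
    exact h Ω g' hg''
  · obtain ⟨v, hv, e⟩ := hg
    obtain ⟨g', hg', hg''⟩ := exists_lift i g e V hv
    rw [← hg', ← P_bc (d.bcBC i)]
    exact h Ω g' hg''

theorem interior_or (d : Dat S) (hd : Good d) [IsNoetherian T] [IsIntegral T] (i : T ⟶ S)
    [LocallyOfFiniteType i] :
    (interior (i ⁻¹' E d)).Nonempty ∨ (interior (i ⁻¹' E d)ᶜ).Nonempty := by
  obtain ⟨V, ⟨v₀, hv₀⟩, h⟩ := exists_open d hd i
  refine h.imp (fun h => ⟨v₀, mem_interior.2 ⟨V, fun v hv => ?_, V.2, hv₀⟩⟩)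
    (fun h => ⟨v₀, mem_interior.2 ⟨V, fun v hv hvE => ?_, V.2, hv₀⟩⟩)
  · intro Ω _ _ g hg
    exact h Ω g ⟨v, hv, hg.symm⟩
  · obtain ⟨Ω, _, _, g, hg⟩ := exists_geom (i v)
    exact h Ω g ⟨v, hv, hg.symm⟩ (hvE Ω g hg)

/-- All or none of the geometric points over a point satisfy the condition. -/
theorem all_or_none {A : CommRingCat.{u}} [IsNoetherianRing A] (d : Dat (Spec A)) (hd : Good d)
    (s : Spec A) :
    (∀ (Ω : Type u) [Field Ω] [IsAlgClosed Ω] (g : Spec (CommRingCat.of Ω) ⟶ Spec A),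
      g (IsLocalRing.closedPoint Ω) = s → P d Ω g) ∨
    (∀ (Ω : Type u) [Field Ω] [IsAlgClosed Ω] (g : Spec (CommRingCat.of Ω) ⟶ Spec A),
      g (IsLocalRing.closedPoint Ω) = s → ¬ P d Ω g) := by
  let q : PrimeSpectrum A := s
  let i : Spec (.of (A ⧸ q.asIdeal)) ⟶ Spec A :=
    Spec.map (CommRingCat.ofHom (Ideal.Quotient.mk q.asIdeal))
  have hi : IsClosedImmersion i := IsClosedImmersion.spec_of_surjective _ Ideal.Quotient.mk_surjective
  have h1 : IsNoetherianRing (A ⧸ q.asIdeal) := inferInstance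
  have h2 : IsIntegral (Spec (.of (A ⧸ q.asIdeal))) := inferInstance
  have h3 : IsNoetherian (Spec (.of (A ⧸ q.asIdeal))) := inferInstance
  have hr : Set.range i = closure {s} := by
    have h4 : Set.range i = PrimeSpectrum.zeroLocus (q.asIdeal : Set A) := by
      refine Eq.trans (b := Set.range (PrimeSpectrum.comap (Ideal.Quotient.mk q.asIdeal))) rfl ?_
      rw [range_comap_of_surjective _ _ Ideal.Quotient.mk_surjective, Ideal.mk_ker]
    rw [h4]
    exact (PrimeSpectrum.closure_singleton q).symm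
  have hgp : i (genericPoint (Spec (.of (A ⧸ q.asIdeal)))) = s := by
    have h5 : IsGenericPoint (i (genericPoint (Spec (.of (A ⧸ q.asIdeal))))) (Set.range i) := by
      have h6 := (genericPoint_spec (Spec (.of (A ⧸ q.asIdeal)))).image i.continuous
      rwa [Set.image_univ, hi.isClosedEmbedding.isClosed_range.closure_eq] at h6
    have h7 : IsGenericPoint s (Set.range i) := hr.symm
    exact h5.eq h7
  obtain ⟨V, ⟨v, hv⟩, h⟩ := exists_open d hd i
  have hs : s ∈ i '' V := ⟨_, (genericPoint_specializes v).mem_open V.2 hv, hgp⟩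
  exact h.imp (fun h Ω _ _ g hg => h Ω g (hg ▸ hs)) (fun h Ω _ _ g hg => h Ω g (hg ▸ hs))

theorem isInd {A : CommRingCat.{u}} [IsNoetherianRing A] (d : Dat (Spec A)) (hd : Good d) :
    ProCons.IsIndConstructible (E d) :=
  K285.Topo.isInd_of_noetherian _ fun T i _ _ _ hη =>
    K285.Topo.interior_nonempty_of_or (interior_or d hd i) hη

theorem isInd_compl {A : CommRingCat.{u}} [IsNoetherianRing A] (d : Dat (Spec A)) (hd : Good d) :
    ProCons.IsIndConstructible (E d)ᶜ :=
  K285.Topo.isInd_of_noetherian _ fun T i _ _ _ hη =>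
    K285.Topo.interior_nonempty_of_or (by
      have h := interior_or d hd i
      rw [Set.preimage_compl, compl_compl]
      exact h.symm) hη

/-- Compatibility with base change. -/
theorem preimage_E {A : CommRingCat.{u}} [IsNoetherianRing A] (d : Dat (Spec A)) (hd : Good d)
    {t : T ⟶ Spec A} {d' : Dat T} (e : BC t d' d) : t ⁻¹' E d = E d' := by
  ext s
  constructor
  · intro h Ω _ _ g hg
    rw [P_bc e]
    exact h Ω (g ≫ t) (by rw [Scheme.Hom.comp_apply, hg])
  · intro h
    obtain ⟨Ω, _, _, g, hg⟩ := exists_geom s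
    have h1 := h Ω g hg
    rw [P_bc e] at h1
    rcases all_or_none d hd (t s) with h2 | h2
    · exact h2
    · exact absurd h1 (h2 Ω (g ≫ t) (by rw [Scheme.Hom.comp_apply, hg]))

theorem preimage_E_of_isOpenImmersion (d : Dat S) (j : T ⟶ S) [IsOpenImmersion j] {d' : Dat T}
    (e : BC j d' d) : j ⁻¹' E d = E d' := by
  ext s
  constructor
  · intro h Ω _ _ g hg
    rw [P_bc e]
    exact h Ω (g ≫ j) (by rw [Scheme.Hom.comp_apply, hg])
  · intro h Ω _ _ g hg
    obtain ⟨g', hg', -⟩ := exists_lift j g (t' := s) hg.symm ⊤ trivial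
    rw [← hg', ← P_bc e]
    refine h Ω g' (j.isOpenEmbedding.injective ?_)
    rw [← Scheme.Hom.comp_apply, hg', hg]

/-- The main constructibility theorem. -/
theorem isLocallyConstructible_E (d : Dat S) (hd : FPres d) (hp : IsProper d.f)
    (hcl : IsClosedImmersion d.i) : IsLocallyConstructible (E d) := by
  have key : ∀ (A : CommRingCat.{u}) (j : Spec A ⟶ S) [IsOpenImmersion j],
      ∃ (T : Scheme.{u}) (t : Spec A ⟶ T) (E₀ : Set T), j ⁻¹' E d = t ⁻¹' E₀ ∧
        ProCons.IsIndConstructible E₀ ∧ ProCons.IsIndConstructible E₀ᶜ := by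
    intro A j _
    let e := d.bcBC j
    have hp' : IsProper (d.bc j).f := MorphismProperty.of_isPullback e.sqY hp
    have hcl' : IsClosedImmersion (d.bc j).i := MorphismProperty.of_isPullback e.sqD hcl
    obtain ⟨A₀, hA₀, t, d₀, h1, ⟨e'⟩⟩ := exists_model A (d.bc j) (hd.bc e) hp' hcl'
    refine ⟨Spec A₀, t, E d₀, ?_, isInd d₀ h1, isInd_compl d₀ h1⟩
    rw [preimage_E_of_isOpenImmersion d j e, preimage_E d₀ h1 e']
  refine K285.Topo.isLocallyConstructible_of_isInd (K285.Topo.isInd_of_approx _ ?_)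
    (K285.Topo.isInd_of_approx _ ?_)
  · intro A j _
    obtain ⟨T, t, E₀, h1, h2, h3⟩ := key A j
    exact ⟨T, t, E₀, h1, h2⟩
  · intro A j _
    obtain ⟨T, t, E₀, h1, h2, h3⟩ := key A j
    exact ⟨T, t, E₀ᶜ, by rw [Set.preimage_compl, h1, Set.preimage_compl], h3⟩

end K342.Cons
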