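import Groth.Agent.ConsProp.K285.Elem
import Mathlib.AlgebraicGeometry.AlgClosed.Basic

/-!
# Generic dichotomies for predicates of geometric points
-/

set_option autoImplicit false
set_option linter.dupNamespace false
set_option linter.unusedVariables false
universe u
open CategoryTheory AlgebraicGeometry CategoryTheory.Limits Topology

namespace K342.Dich

theorem isLC_of_isOpen {X : Type*} [TopologicalSpace X] [TopologicalSpace.NoetherianSpace X]
    {U : Set X} (hU : IsOpen U) : IsLocallyConstructible U :=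
  (IsCompact.isConstructible (TopologicalSpace.NoetherianSpace.isCompact U)
    hU).isLocallyConstructible

theorem isLC_of_isClosed {X : Type*} [TopologicalSpace X] [TopologicalSpace.NoetherianSpace X]
    {U : Set X} (hU : IsClosed U) : IsLocallyConstructible U := by
  have h := IsCompact.isConstructible (TopologicalSpace.NoetherianSpace.isCompact Uᶜ)
    hU.isOpen_compl
  have h2 := h.compl
  rw [compl_compl] at h2
  exact h2.isLocallyConstructible

theorem isLC_compl {X : Type*} [TopologicalSpace X] {E : Set X} (hE : IsLocallyConstructible E) :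
    IsLocallyConstructible Eᶜ := by
  intro x
  obtain ⟨U, hU, hU', hs'⟩ := hE x
  exact ⟨U, hU, hU', hs'.compl⟩

theorem isNoetherian_opens {T : Scheme.{u}} [IsNoetherian T] (U : T.Opens) :
    IsNoetherian (U : Scheme.{u}) := by
  have h1 : IsLocallyNoetherian (U : Scheme.{u}) := isLocallyNoetherian_of_isOpenImmersion U.ι
  have h2 : CompactSpace (U : Scheme.{u}) :=
    isCompact_iff_compactSpace.1 (TopologicalSpace.NoetherianSpace.isCompact (U : Set T))
  exact ⟨⟩

/-- Predicates of geometric points of a scheme. -/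
abbrev GPred (T : Scheme.{u}) : Type (u + 1) :=
  ∀ (Ω : Type u) [Field Ω] [IsAlgClosed Ω], (Spec (CommRingCat.of Ω) ⟶ T) → Prop

/-- Over some nonempty open, the predicate holds for all geometric points or for none. -/
def Dich (T : Scheme.{u}) (P : GPred T) : Prop :=
  ∃ V : T.Opens, (V : Set T).Nonempty ∧
    ((∀ (Ω : Type u) [Field Ω] [IsAlgClosed Ω] (g : Spec (CommRingCat.of Ω) ⟶ T),
        g (IsLocalRing.closedPoint Ω) ∈ V → P Ω g) ∨
      (∀ (Ω : Type u) [Field Ω] [IsAlgClosed Ω] (g : Spec (CommRingCat.of Ω) ⟶ T),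
        g (IsLocalRing.closedPoint Ω) ∈ V → ¬ P Ω g))

variable {T : Scheme.{u}} {P Q : GPred T}

theorem inter_nonempty [IrreducibleSpace T] {U V : T.Opens} (hU : (U : Set T).Nonempty)
    (hV : (V : Set T).Nonempty) : ((U ⊓ V : T.Opens) : Set T).Nonempty := by
  have := (PreirreducibleSpace.isPreirreducible_univ (X := T)) U V U.2 V.2
    (by simpa using hU) (by simpa using hV)
  simpa using this

theorem Dich.not (h : Dich T P) : Dich T (fun Ω _ _ g => ¬ P Ω g) := by
  obtain ⟨V, hV, h | h⟩ := h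
  · exact ⟨V, hV, Or.inr fun Ω _ _ g hg hn => hn (h Ω g hg)⟩
  · exact ⟨V, hV, Or.inl fun Ω _ _ g hg => h Ω g hg⟩

theorem Dich.congr_on [IrreducibleSpace T] (h : Dich T P) (U : T.Opens)
    (hU : (U : Set T).Nonempty)
    (e : ∀ (Ω : Type u) [Field Ω] [IsAlgClosed Ω] (g : Spec (CommRingCat.of Ω) ⟶ T),
      g (IsLocalRing.closedPoint Ω) ∈ U → (P Ω g ↔ Q Ω g)) : Dich T Q := by
  obtain ⟨V, hV, h⟩ := h
  refine ⟨U ⊓ V, inter_nonempty hU hV, h.imp (fun h Ω _ _ g hg => (e Ω g hg.1).1 (h Ω g hg.2))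
    (fun h Ω _ _ g hg hn => h Ω g hg.2 ((e Ω g hg.1).2 hn))⟩

theorem Dich.congr (h : Dich T P)
    (e : ∀ (Ω : Type u) [Field Ω] [IsAlgClosed Ω] (g : Spec (CommRingCat.of Ω) ⟶ T),
      (P Ω g ↔ Q Ω g)) : Dich T Q := by
  obtain ⟨V, hV, h⟩ := h
  exact ⟨V, hV, h.imp (fun h Ω _ _ g hg => (e Ω g).1 (h Ω g hg))
    (fun h Ω _ _ g hg hn => h Ω g hg ((e Ω g).2 hn))⟩

theorem Dich.and [IrreducibleSpace T] (h : Dich T P) (h' : Dich T Q) :
    Dich T (fun Ω _ _ g => P Ω g ∧ Q Ω g) := by
  obtain ⟨U, hU, h⟩ := h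
  obtain ⟨V, hV, h'⟩ := h'
  refine ⟨U ⊓ V, inter_nonempty hU hV, ?_⟩
  rcases h with h | h
  · rcases h' with h' | h'
    · exact Or.inl fun Ω _ _ g hg => ⟨h Ω g hg.1, h' Ω g hg.2⟩
    · exact Or.inr fun Ω _ _ g hg hn => h' Ω g hg.2 hn.2
  · exact Or.inr fun Ω _ _ g hg hn => h Ω g hg.1 hn.1

theorem Dich.or [IrreducibleSpace T] (h : Dich T P) (h' : Dich T Q) :
    Dich T (fun Ω _ _ g => P Ω g ∨ Q Ω g) :=
  (h.not.and h'.not).not.congr fun Ω _ _ g => by tauto

theorem Dich.of_const (p : Prop) [Nonempty T] : Dich T (fun _ _ _ _ => p) := by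
  by_cases hp : p
  · exact ⟨⊤, ⟨Classical.arbitrary T, trivial⟩, Or.inl fun _ _ _ _ _ => hp⟩
  · exact ⟨⊤, ⟨Classical.arbitrary T, trivial⟩, Or.inr fun _ _ _ _ _ => hp⟩

theorem Dich.finite_exists [IrreducibleSpace T] {ι : Type*} [Finite ι] {R : ι → GPred T}
    (h : ∀ i, Dich T (R i)) : Dich T (fun Ω _ _ g => ∃ i, R i Ω g) := by
  classical
  have := Fintype.ofFinite ι
  have key : ∀ s : Finset ι, Dich T (fun Ω _ _ g => ∃ i ∈ s, R i Ω g) := by
    intro s
    induction s using Finset.induction_on with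
    | empty => exact (Dich.of_const (T := T) False).congr fun Ω _ _ g => by simp
    | insert a s ha ih => exact ((h a).or ih).congr fun Ω _ _ g => by simp
  exact (key Finset.univ).congr fun Ω _ _ g => by simp

/-- A dichotomy for a locally constructible set of points. -/
theorem Dich.of_isLocallyConstructible [IrreducibleSpace T] {E : Set T}
    (hE : IsLocallyConstructible E) :
    Dich T (fun Ω _ _ g => g (IsLocalRing.closedPoint Ω) ∈ E) := by
  rcases K285.Elem.interior_nonempty_or hE with h | h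
  · exact ⟨⟨interior E, isOpen_interior⟩, h, Or.inl fun Ω _ _ g hg => interior_subset hg⟩
  · exact ⟨⟨interior Eᶜ, isOpen_interior⟩, h, Or.inr fun Ω _ _ g hg => interior_subset hg⟩

/-- Geometric points lift along morphisms of finite type whose image contains the point. -/
theorem exists_lift {T' : Scheme.{u}} (h : T' ⟶ T) [LocallyOfFiniteType h] {Ω : Type u} [Field Ω]
    [IsAlgClosed Ω] (g : Spec (CommRingCat.of Ω) ⟶ T) {t' : T'}
    (ht : h t' = g (IsLocalRing.closedPoint Ω)) (V : T'.Opens) (hV : t' ∈ V) :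
    ∃ g' : Spec (CommRingCat.of Ω) ⟶ T', g' ≫ h = g ∧ g' (IsLocalRing.closedPoint Ω) ∈ V := by
  -- the fibre product of `V` with `Spec Ω`
  obtain ⟨z, hz1, hz2⟩ := Scheme.Pullback.exists_preimage_pullback (f := V.ι ≫ h) (g := g)
    (⟨t', hV⟩ : (V : Scheme.{u})) (IsLocalRing.closedPoint Ω) (by
      rw [← ht]; rfl)
  have hne : Nonempty ↥(pullback (V.ι ≫ h) g) := ⟨z⟩
  have hft : LocallyOfFiniteType (pullback.snd (V.ι ≫ h) g) := inferInstance
  have hJ : JacobsonSpace ↥(pullback (V.ι ≫ h) g) :=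
    LocallyOfFiniteType.jacobsonSpace (pullback.snd (V.ι ≫ h) g)
  have hcl : (closedPoints ↥(pullback (V.ι ≫ h) g)).Nonempty := by
    have h1 := JacobsonSpace.closure_inter_closedPoints (isClosed_univ (X := ↥(pullback (V.ι ≫ h) g)))
    rw [Set.univ_inter] at h1
    have h2 : (closure (closedPoints ↥(pullback (V.ι ≫ h) g))).Nonempty := by
      rw [h1]; exact Set.univ_nonempty
    exact closure_nonempty_iff.1 h2
  obtain ⟨x, hx⟩ := hcl
  let σ := pointOfClosedPoint (pullback.snd (V.ι ≫ h) g) x hx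
  have hσ : σ ≫ pullback.snd (V.ι ≫ h) g = 𝟙 _ := pointOfClosedPoint_comp _ _ _
  refine ⟨σ ≫ pullback.fst (V.ι ≫ h) g ≫ V.ι, ?_, ?_⟩
  · rw [Category.assoc, Category.assoc, pullback.condition, ← Category.assoc, hσ, Category.id_comp]
  · rw [Scheme.Hom.comp_apply, Scheme.Hom.comp_apply]
    exact ((pullback.fst (V.ι ≫ h) g) _).2

/-- Descent of a dichotomy along a morphism of finite type mapping the generic point to the generic
point. -/
theorem Dich.of_cover [IsNoetherian T] [IrreducibleSpace T] {T' : Scheme.{u}} [IrreducibleSpace T']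
    [IsNoetherian T'] (h : T' ⟶ T) [LocallyOfFiniteType h]
    (hgen : h (genericPoint T') = genericPoint T)
    (H : Dich T' (fun Ω _ _ g' => P Ω (g' ≫ h))) : Dich T P := by
  obtain ⟨V', hV', H⟩ := H
  have hfp : LocallyOfFinitePresentation h :=
    LocallyOfFinitePresentation.iff_locallyOfFiniteType.2 inferInstance
  have hqc : QuasiCompact h := inferInstance
  have hcons : IsLocallyConstructible (h '' (V' : Set T')) :=
    h.isLocallyConstructible_image (isLC_of_isOpen V'.2)
  have hmem : genericPoint T ∈ h '' (V' : Set T') := by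
    obtain ⟨y, hy⟩ := hV'
    exact ⟨genericPoint T', (genericPoint_specializes y).mem_open V'.2 hy, hgen⟩
  have hint : (interior (h '' (V' : Set T'))).Nonempty :=
    K285.Elem.interior_nonempty_of_mem ((Groth.Agent.S3402.result T _).1 hcons).1 hmem
  refine ⟨⟨interior (h '' (V' : Set T')), isOpen_interior⟩, hint, ?_⟩
  refine H.imp (fun H Ω _ _ g hg => ?_) (fun H Ω _ _ g hg => ?_)
  · obtain ⟨t', ht', e⟩ := interior_subset hg
    obtain ⟨g', hg'1, hg'2⟩ := exists_lift h g e V' ht'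
    rw [← hg'1]
    exact H Ω g' hg'2
  · obtain ⟨t', ht', e⟩ := interior_subset hg
    obtain ⟨g', hg'1, hg'2⟩ := exists_lift h g e V' ht'
    rw [← hg'1]
    exact H Ω g' hg'2

/-- A dichotomy may be checked on a nonempty open subscheme. -/
theorem Dich.of_open [IsNoetherian T] [IrreducibleSpace T] (U : T.Opens)
    (hU : (U : Set T).Nonempty)
    (H : Dich (U : Scheme.{u}) (fun Ω _ _ g' => P Ω (g' ≫ U.ι))) : Dich T P := by
  obtain ⟨V', hV', H⟩ := H
  refine ⟨U.ι ''ᵁ V', ?_, ?_⟩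
  · obtain ⟨y, hy⟩ := hV'
    exact ⟨U.ι y, ⟨y, hy, rfl⟩⟩
  · have key : ∀ (Ω : Type u) [Field Ω] [IsAlgClosed Ω] (g : Spec (CommRingCat.of Ω) ⟶ T),
        g (IsLocalRing.closedPoint Ω) ∈ U.ι ''ᵁ V' → ∃ g' : Spec (CommRingCat.of Ω) ⟶ U,
          g' ≫ U.ι = g ∧ g' (IsLocalRing.closedPoint Ω) ∈ V' := by
      rintro Ω _ _ g ⟨y, hy, e⟩
      exact exists_lift U.ι g e V' hy
    refine H.imp (fun H Ω _ _ g hg => ?_) (fun H Ω _ _ g hg => ?_)
    · obtain ⟨g', hg'1, hg'2⟩ := key Ω g hg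
      rw [← hg'1]
      exact H Ω g' hg'2
    · obtain ⟨g', hg'1, hg'2⟩ := key Ω g hg
      rw [← hg'1]
      exact H Ω g' hg'2

end K342.Dich
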