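import Groth.Prelude.Def_SSMod
import Groth.Agent.SSMod.K342.Dich

/-!
# Marked relative schemes over another one, and their base changes
-/

set_option autoImplicit false
set_option linter.unusedVariables false
set_option linter.dupNamespace false
universe u
open CategoryTheory AlgebraicGeometry CategoryTheory.Limits Topology TopologicalSpace

namespace K342.Dat

open K342.Dich

/-- A marked scheme `Y` with a map to `C`, over the base `S`. -/
structure Dat (S : Scheme.{u}) where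
  /-- the target -/
  C : Scheme.{u}
  /-- the source -/
  Y : Scheme.{u}
  /-- the marked subscheme -/
  D : Scheme.{u}
  /-- the structure map -/
  φ : C ⟶ S
  /-- the map -/
  f : Y ⟶ C
  /-- the marking -/
  i : D ⟶ Y

variable {S T U : Scheme.{u}}

/-- `d'` is the base change of `d` along `t`. -/
structure BC (t : T ⟶ S) (d' : Dat T) (d : Dat S) where
  /-- on targets -/
  a : d'.C ⟶ d.C
  /-- on sources -/
  b : d'.Y ⟶ d.Y
  /-- on marked subschemes -/
  c : d'.D ⟶ d.D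
  sqC : IsPullback a d'.φ d.φ t
  sqY : IsPullback b d'.f d.f a
  sqD : IsPullback c d'.i d.i b

variable {t : T ⟶ S} {s : U ⟶ T} {d : Dat S} {d' : Dat T} {d'' : Dat U}

theorem BC.sqq (e : BC t d' d) : IsPullback e.b (d'.f ≫ d'.φ) (d.f ≫ d.φ) t :=
  e.sqY.paste_vert e.sqC

theorem BC.sqDD (e : BC t d' d) : IsPullback e.c (d'.i ≫ d'.f ≫ d'.φ) (d.i ≫ d.f ≫ d.φ) t :=
  e.sqD.paste_vert e.sqq

/-- Composition. -/
def BC.comp (e' : BC s d'' d') (e : BC t d' d) : BC (s ≫ t) d'' d where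
  a := e'.a ≫ e.a
  b := e'.b ≫ e.b
  c := e'.c ≫ e.c
  sqC := e'.sqC.paste_horiz e.sqC
  sqY := e'.sqY.paste_horiz e.sqY
  sqD := e'.sqD.paste_horiz e.sqD

/-- Lifting. -/
theorem BC.exists_lift (e : BC t d' d) (E : BC (s ≫ t) d'' d) :
    ∃ e' : BC s d'' d', e'.b ≫ e.b = E.b := by
  have ha : E.a ≫ d.φ = (d''.φ ≫ s) ≫ t := by rw [E.sqC.w, Category.assoc]
  let a' := e.sqC.lift E.a (d''.φ ≫ s) ha
  have ha1 : a' ≫ e.a = E.a := e.sqC.lift_fst _ _ _
  have ha2 : a' ≫ d'.φ = d''.φ ≫ s := e.sqC.lift_snd _ _ _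
  have sqC : IsPullback a' d''.φ d'.φ s := by
    refine IsPullback.of_right ?_ ha2 e.sqC
    rw [ha1]; exact E.sqC
  have hb : E.b ≫ d.f = (d''.f ≫ a') ≫ e.a := by rw [E.sqY.w, Category.assoc, ha1]
  let b' := e.sqY.lift E.b (d''.f ≫ a') hb
  have hb1 : b' ≫ e.b = E.b := e.sqY.lift_fst _ _ _
  have hb2 : b' ≫ d'.f = d''.f ≫ a' := e.sqY.lift_snd _ _ _
  have sqY : IsPullback b' d''.f d'.f a' := by
    refine IsPullback.of_right ?_ hb2 e.sqY
    rw [hb1, ha1]; exact E.sqY
  have hc : E.c ≫ d.i = (d''.i ≫ b') ≫ e.b := by rw [E.sqD.w, Category.assoc, hb1]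
  let c' := e.sqD.lift E.c (d''.i ≫ b') hc
  have hc1 : c' ≫ e.c = E.c := e.sqD.lift_fst _ _ _
  have hc2 : c' ≫ d'.i = d''.i ≫ b' := e.sqD.lift_snd _ _ _
  have sqD : IsPullback c' d''.i d'.i b' := by
    refine IsPullback.of_right ?_ hc2 e.sqD
    rw [hc1, hb1]; exact E.sqD
  exact ⟨⟨a', b', c', sqC, sqY, sqD⟩, hb1⟩

theorem baseChangeOver_fst {X X' S S₁ : Scheme.{u}} (b : X' ⟶ X) (g : X ⟶ S) (s : S₁ ⟶ S) :
    CInt.baseChangeOver b g s ≫ pullback.fst g s = pullback.fst (b ≫ g) s ≫ b :=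
  pullback.lift_fst _ _ _

theorem baseChangeOver_snd {X X' S S₁ : Scheme.{u}} (b : X' ⟶ X) (g : X ⟶ S) (s : S₁ ⟶ S) :
    CInt.baseChangeOver b g s ≫ pullback.snd g s = pullback.snd (b ≫ g) s :=
  (pullback.lift_snd _ _ _).trans (Category.comp_id _)

theorem isPullback_baseChangeOver {X X' S S₁ : Scheme.{u}} (b : X' ⟶ X) (g : X ⟶ S) (s : S₁ ⟶ S) :
    IsPullback (pullback.fst (b ≫ g) s) (CInt.baseChangeOver b g s) b (pullback.fst g s) := by
  refine IsPullback.of_bot (v₂₁ := pullback.snd g s) (v₂₂ := g) (h₃₁ := s) ?_ ?_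
    (IsPullback.of_hasPullback g s)
  · rw [baseChangeOver_snd]
    exact IsPullback.of_hasPullback _ _
  · rw [baseChangeOver_fst]

/-- The chosen base change. -/
noncomputable def Dat.bc (d : Dat S) (t : T ⟶ S) : Dat T where
  C := pullback d.φ t
  Y := pullback (d.f ≫ d.φ) t
  D := pullback (d.i ≫ d.f ≫ d.φ) t
  φ := pullback.snd d.φ t
  f := CInt.baseChangeOver d.f d.φ t
  i := CInt.baseChangeOver d.i (d.f ≫ d.φ) t

/-- The chosen base change is a base change. -/
noncomputable def Dat.bcBC (d : Dat S) (t : T ⟶ S) : BC t (d.bc t) d where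
  a := pullback.fst d.φ t
  b := pullback.fst (d.f ≫ d.φ) t
  c := pullback.fst (d.i ≫ d.f ≫ d.φ) t
  sqC := IsPullback.of_hasPullback _ _
  sqY := isPullback_baseChangeOver _ _ _
  sqD := isPullback_baseChangeOver _ _ _

theorem Dat.bc_snd (d : Dat S) (t : T ⟶ S) :
    (d.bc t).f ≫ (d.bc t).φ = pullback.snd (d.f ≫ d.φ) t := baseChangeOver_snd _ _ _

/-- Exceptional components over a field. -/
def HasExc (Ω : Type u) [Field Ω] (d : Dat (Spec (CommRingCat.of Ω))) : Prop :=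
  ∃ Z ∈ irreducibleComponents (d.Y : Type u),
    SSMod.IsExcComp Ω d.f (d.f ≫ d.φ) (Set.range d.i) Z

/-- The condition over an algebraically closed field. -/
structure PΩ (Ω : Type u) [Field Ω] (d : Dat (Spec (CommRingCat.of Ω))) : Prop where
  nodal : Curv2.IsNodalFamily (d.f ≫ d.φ)
  unram : FormallyUnramified (d.i ≫ d.f ≫ d.φ)
  disj : Disjoint (Set.range d.i) (DualGr.nonsmoothPts (d.f ≫ d.φ))
  noExc : ¬ HasExc Ω d

/-- The condition on geometric points. -/
def P (d : Dat S) : GPred S := fun Ω _ _ g =>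
  ∀ d' : Dat (Spec (CommRingCat.of Ω)), Nonempty (BC g d' d) → PΩ Ω d'

theorem P_bc (e : BC t d' d) (Ω : Type u) [Field Ω] [IsAlgClosed Ω]
    (g : Spec (CommRingCat.of Ω) ⟶ T) : P d' Ω g ↔ P d Ω (g ≫ t) := by
  constructor
  · rintro h x ⟨E⟩
    obtain ⟨e', -⟩ := e.exists_lift E
    exact h x ⟨e'⟩
  · rintro h x ⟨E⟩
    exact h x ⟨E.comp e⟩

/-- The finiteness conditions. -/
structure Good (d : Dat S) : Prop where
  lft : LocallyOfFiniteType d.φ
  qc : QuasiCompact d.φ
  proper : IsProper d.f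
  cl : IsClosedImmersion d.i

theorem Good.bc (h : Good d) (e : BC t d' d) : Good d' where
  lft := MorphismProperty.of_isPullback e.sqC h.lft
  qc := MorphismProperty.of_isPullback e.sqC h.qc
  proper := MorphismProperty.of_isPullback e.sqY h.proper
  cl := MorphismProperty.of_isPullback e.sqD h.cl

theorem Good.lft_q (h : Good d) : LocallyOfFiniteType (d.f ≫ d.φ) := by
  have := h.lft
  have := h.proper
  infer_instance

theorem Good.qc_q (h : Good d) : QuasiCompact (d.f ≫ d.φ) := by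
  have := h.qc
  have := h.proper
  infer_instance

end K342.Dat
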