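import Groth.Agent.FlatB.GeomRed
import Groth.Agent.Pi1.H394.WEReduced
import Mathlib.AlgebraicGeometry.Morphisms.Etale
import Mathlib.RingTheory.Etale.Weakly

/-!
# Schemes etale over a reduced scheme are reduced
-/

set_option autoImplicit false
universe u
open CategoryTheory CategoryTheory.Limits AlgebraicGeometry

namespace K342.EtRed

/-- A scheme etale over a reduced scheme is reduced. -/
theorem isReduced_of_etale {X Y : Scheme.{u}} (f : X ⟶ Y) [Etale f] [IsReduced Y] :
    IsReduced X := by
  refine Groth.Agent.FlatB.GeomRed.isReduced_of_flat_cover fun x => ?_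
  obtain ⟨U, hU, hxU, -⟩ := exists_isAffineOpen_mem_and_subset (X := Y) (U := ⊤) (x := f x) trivial
  obtain ⟨V, hV, hxV, hVU⟩ := exists_isAffineOpen_mem_and_subset (X := X) (U := f ⁻¹ᵁ U) (x := x) hxU
  have he := Scheme.Hom.etale_appLE f hU hV hVU
  have : _root_.IsReduced Γ(X, V) := by
    algebraize [(f.appLE U V hVU).hom]
    have : Algebra.Etale Γ(Y, U) Γ(X, V) := he
    exact Groth.Agent.Pi1.H394.WEReduced.isReduced_of_weaklyEtale Γ(Y, U) Γ(X, V)
  have h2 : IsReduced (Spec Γ(X, V)) := by rw [affine_isReduced_iff]; exact this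
  have hx : x ∈ Set.range hV.fromSpec := by rw [hV.range_fromSpec]; exact hxV
  obtain ⟨z, hz⟩ := hx
  exact ⟨_, hV.fromSpec, z, hz, inferInstance, h2⟩

end K342.EtRed
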