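import Groth.Agent.SSMod.K342.GComp
import Groth.Agent.Ega43.LocusElem
import Mathlib.AlgebraicGeometry.Morphisms.UniversallyInjective

/-!
# Dichotomies for the cardinality of geometric fibres
-/

set_option autoImplicit false
set_option linter.unusedVariables false
universe u
open CategoryTheory AlgebraicGeometry CategoryTheory.Limits Topology TopologicalSpace

namespace K342.Radic

open K342.Dich K342.GComp Groth.Agent.Ega43.Locus Groth.Agent.Ega43.LocusElem

theorem universallyInjective_of_subsingleton {Ω : Type u} [Field Ω] [IsAlgClosed Ω]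
    {P : Scheme.{u}} (s : P ⟶ Spec (CommRingCat.of Ω)) [LocallyOfFiniteType s] [Subsingleton P] :
    UniversallyInjective s := by
  rcases isEmpty_or_nonempty P with hP | ⟨⟨x⟩⟩
  · exact ⟨fun X' T' i₁ i₂ s' h a b hab => (hP.false (i₁ a)).elim⟩
  · have hx : IsClosed ({x} : Set P) := by
      rw [Subsingleton.eq_univ_of_nonempty (Set.singleton_nonempty x)]
      exact isClosed_univ
    let σ := pointOfClosedPoint s x hx
    have hσ : σ ≫ s = 𝟙 _ := pointOfClosedPoint_comp _ _ _
    have hσs : Surjective σ := ⟨fun y => ⟨IsLocalRing.closedPoint Ω, Subsingleton.elim _ _⟩⟩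
    constructor
    intro X' T' i₁ i₂ s' h
    have hw : (𝟙 T') ≫ i₂ = (i₂ ≫ σ) ≫ s := by rw [Category.assoc, hσ]; simp
    let σ' : T' ⟶ X' := h.lift (𝟙 T') (i₂ ≫ σ) hw
    have h1 : σ' ≫ s' = 𝟙 T' := h.lift_fst _ _ _
    have h2 : σ' ≫ i₁ = i₂ ≫ σ := h.lift_snd _ _ _
    have sq : IsPullback σ' i₂ i₁ σ := by
      refine IsPullback.of_right (h₁₂ := s') (h₂₂ := s) (v₁₃ := i₂) ?_ h2 h
      rw [h1, hσ]
      exact IsPullback.of_horiz_isIso ⟨by simp⟩
    have hs : Surjective σ' := MorphismProperty.of_isPullback sq.flip hσs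
    intro a b hab
    obtain ⟨a', rfl⟩ := hs.1 a
    obtain ⟨b', rfl⟩ := hs.1 b
    rw [← Scheme.Hom.comp_apply, ← Scheme.Hom.comp_apply, h1] at hab
    exact congrArg σ' (by simpa using hab)

theorem universallyInjective_iff_subsingleton {Ω : Type u} [Field Ω] [IsAlgClosed Ω]
    {P : Scheme.{u}} (s : P ⟶ Spec (CommRingCat.of Ω)) [LocallyOfFiniteType s] :
    UniversallyInjective s ↔ Subsingleton P := by
  refine ⟨fun h => ⟨fun a b => s.injective ?_⟩, fun h => universallyInjective_of_subsingleton s⟩
  exact Subsingleton.elim (α := PrimeSpectrum Ω) _ _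

/-- Having at most one point is generically constant. -/
theorem dich_subsingleton {B T : Scheme.{u}} (b : B ⟶ T) [LocallyOfFiniteType b] [QuasiCompact b]
    [IsNoetherian T] [IrreducibleSpace T] :
    Dich T (fun Ω _ _ g => Subsingleton ↥(pullback b g)) := by
  have hfp : LocallyOfFinitePresentation b :=
    LocallyOfFinitePresentation.iff_locallyOfFiniteType.2 inferInstance
  have hBn : IsLocallyNoetherian B := LocallyOfFiniteType.isLocallyNoetherian b
  have hqs : QuasiSeparated b := inferInstance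
  have hE := isLocallyConstructible_locus_universallyInjective b (𝟙 T)
  have hP : FpqcInv @UniversallyInjective.{u} := FpqcInv.of_descendsAlong _
  refine (Dich.of_isLocallyConstructible hE).congr fun Ω _ _ g => ?_
  have hY : IsPullback g (𝟙 _) (𝟙 T) g := IsPullback.of_vert_isIso ⟨by simp⟩
  rw [mem_locus_iff_of_field hP hY (IsPullback.of_hasPullback b g)]
  exact universallyInjective_iff_subsingleton _

/-- Comparison map for a base change over `Y`. -/
theorem exists_comp {Y T T₁ P A : Scheme.{u}} (q : Y ⟶ T) (i : A ⟶ Y) {g : T₁ ⟶ T} {p : P ⟶ Y}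
    {s : P ⟶ T₁} (h : IsPullback p s q g) :
    ∃ c : pullback (i ≫ q) g ⟶ P, IsPullback (pullback.fst (i ≫ q) g) c i p ∧
      c ≫ s = pullback.snd (i ≫ q) g := by
  have hw : (pullback.fst (i ≫ q) g ≫ i) ≫ q = pullback.snd (i ≫ q) g ≫ g := by
    rw [Category.assoc, pullback.condition]
  refine ⟨h.lift (pullback.fst (i ≫ q) g ≫ i) (pullback.snd (i ≫ q) g) hw, ?_, h.lift_snd _ _ _⟩
  refine IsPullback.of_bot (v₂₁ := s) (v₂₂ := q) (h₃₁ := g) ?_ (h.lift_fst _ _ _).symm h
  rw [h.lift_snd]
  exact IsPullback.of_hasPullback _ _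

/-- The reduced closed subscheme on a closed subset. -/
noncomputable abbrev redι {Y : Scheme.{u}} (Z : Closeds Y) :=
  (Scheme.IdealSheafData.vanishingIdeal Z).subschemeι

theorem range_redι {Y : Scheme.{u}} (Z : Closeds Y) : Set.range (redι Z) = (Z : Set Y) := by
  rw [Scheme.IdealSheafData.range_subschemeι, Scheme.IdealSheafData.coe_support_vanishingIdeal]

theorem exists_closed_comp {Y T T₁ P : Scheme.{u}} (q : Y ⟶ T) (Z : Closeds Y) {g : T₁ ⟶ T}
    {p : P ⟶ Y} {s : P ⟶ T₁} (h : IsPullback p s q g) :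
    ∃ c : pullback (redι Z ≫ q) g ⟶ P, IsClosedImmersion c ∧
      c ≫ s = pullback.snd (redι Z ≫ q) g ∧ Set.range c = p ⁻¹' (Z : Set Y) := by
  obtain ⟨c, h1, h2⟩ := exists_comp q (redι Z) h
  refine ⟨c, MorphismProperty.of_isPullback h1 inferInstance, h2, ?_⟩
  rw [range_snd h1, range_redι]

/-- The same for the points of the geometric fibres lying over a closed subset. -/
theorem dich_preimage_subsingleton {Y T : Scheme.{u}} (q : Y ⟶ T) [LocallyOfFiniteType q]
    [QuasiCompact q] [IsNoetherian T] [IrreducibleSpace T] (Z : Closeds Y) :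
    Dich T (fun Ω _ _ g => (pullback.fst q g ⁻¹' (Z : Set Y)).Subsingleton) := by
  refine (dich_subsingleton (redι Z ≫ q)).congr fun Ω _ _ g => ?_
  obtain ⟨c, h1, -, h2⟩ := exists_closed_comp q Z (IsPullback.of_hasPullback q g)
  rw [← h2]
  constructor
  · intro h
    rintro _ ⟨a, rfl⟩ _ ⟨b, rfl⟩
    exact congrArg c (Subsingleton.elim a b)
  · intro h
    exact ⟨fun a b => c.isClosedEmbedding.injective (h ⟨a, rfl⟩ ⟨b, rfl⟩)⟩

/-- Counting the points of a scheme of finite type over an algebraically closed field. -/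
theorem encard_univ_le_iff {R K : Scheme.{u}} [JacobsonSpace R] {ι : Type u} [Finite ι]
    (Z : ι → Set R) (hirr : ∀ j, IsIrreducible (Z j)) (hcov : (⋃ j, Z j) = Set.univ)
    (hinj : ∀ j k, Z j ⊆ Z k → j = k) (n : ℕ) :
    (Set.univ : Set R).encard ≤ n ↔ (∀ j, (Z j).Subsingleton) ∧ Nat.card ι ≤ n := by
  have hι : (Set.univ : Set ι).encard = (Nat.card ι : ℕ∞) := by
    rw [Set.encard_univ, ENat.card_eq_coe_natCard]
  constructor
  · intro h
    have hfin : (Set.univ : Set R).Finite := Set.finite_of_encard_le_coe h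
    have : Finite R := Set.finite_univ_iff.1 hfin
    have hsub : ∀ j, (Z j).Subsingleton := fun j =>
      isPreirreducible_iff_subsingleton.1 (hirr j).isPreirreducible
    refine ⟨hsub, ?_⟩
    choose f hf using fun j => (hirr j).nonempty
    have hfi : Function.Injective f := by
      intro j k hjk
      refine hinj j k fun x hx => ?_
      rw [hsub j hx (hf j), hjk]
      exact hf k
    have h3 : (Set.univ : Set ι).encard ≤ (Set.univ : Set R).encard :=
      Set.encard_le_encard_of_injOn (f := f) (fun _ _ => trivial) hfi.injOn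
    rw [hι] at h3
    exact_mod_cast h3.trans h
  · rintro ⟨hsub, hn⟩
    have hx : ∀ x : R, ∃ j, x ∈ Z j := fun x => by
      have : x ∈ ⋃ j, Z j := hcov ▸ trivial
      simpa using this
    choose f hf using hx
    have hfi : Function.Injective f := by
      intro x y hxy
      exact hsub (f x) (hf x) (hxy ▸ hf y)
    have h3 : (Set.univ : Set R).encard ≤ (Set.univ : Set ι).encard :=
      Set.encard_le_encard_of_injOn (f := f) (fun _ _ => trivial) hfi.injOn
    rw [hι] at h3
    exact h3.trans (by exact_mod_cast hn)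

theorem encard_range_of_iso {A B : Scheme.{u}} (e : A ≅ B) :
    (Set.univ : Set A).encard = (Set.univ : Set B).encard := by
  have h1 := (Scheme.homeoOfIso e).injective.encard_image Set.univ
  rw [Set.image_univ, (Scheme.homeoOfIso e).surjective.range_eq] at h1
  exact h1.symm

/-- The number of points of the geometric fibres in a closed subset. -/
theorem dich_encard {Y T : Scheme.{u}} (q : Y ⟶ T) [LocallyOfFiniteType q]
    [QuasiCompact q] [IsNoetherian T] [IsIntegral T] (Z : Closeds Y) (n : ℕ) :
    Dich T (fun Ω _ _ g => (pullback.fst q g ⁻¹' (Z : Set Y)).encard ≤ n) := by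
  let a := redι Z ≫ q
  obtain ⟨T', h, hT'i, hT'n, hlft, ι, hι, W, hgen, hW⟩ := exists_gc a
  let a' := pullback.snd a h
  refine Dich.of_cover h hgen ?_
  have key : Dich T' (fun Ω _ _ g' => (∀ j, (pullback.fst a' g' ⁻¹' W j).Subsingleton) ∧
      Nat.card ι ≤ n) := by
    refine Dich.and ?_ (Dich.of_const _)
    have h1 := (Dich.finite_exists (T := T') fun j =>
      (dich_preimage_subsingleton a' (⟨W j, hW.isClosed j⟩ : Closeds _)).not).not
    refine h1.congr fun Ω _ _ g => ?_
    simp
  refine key.congr fun Ω _ _ g' => ?_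
  obtain ⟨c, h1, -, h2⟩ := exists_closed_comp q Z (IsPullback.of_hasPullback q (g' ≫ h))
  rw [← h2, ← Set.image_univ, c.isClosedEmbedding.injective.encard_image,
    ← encard_range_of_iso (pullbackLeftPullbackSndIso a h g')]
  have hJ : JacobsonSpace ↥(pullback a' g') :=
    LocallyOfFiniteType.jacobsonSpace (pullback.snd a' g')
  have h3 := hW.compsAt Ω g' _ _ _ (IsPullback.of_hasPullback a' g')
  exact (encard_univ_le_iff (K := T) (fun j => pullback.fst a' g' ⁻¹' W j) h3.irr h3.cover
    h3.inj n).symm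

end K342.Radic
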