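import Groth.Agent.SSMod.K342.P1Locus
import Groth.Agent.SSMod.K342.Radic
import Groth.Agent.S1358
import Groth.Agent.S0434

/-!
# Projective lines in the geometric fibres
-/

set_option autoImplicit false
set_option linter.unusedSectionVars false
set_option linter.unusedVariables false
universe u
open CategoryTheory AlgebraicGeometry CategoryTheory.Limits Topology TopologicalSpace

namespace K342.P1Red

open K342.Dich K342.P1Locus K342.Radic K342.GComp

/-- The image of a closed immersion of the projective line. -/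
def IsP1On (Ω : Type u) [Field Ω] {P : Scheme.{u}} (s : P ⟶ Spec (CommRingCat.of Ω))
    (Z : Set P) : Prop :=
  ∃ e : CohB1.ProjSpace 1 Ω ⟶ P, IsClosedImmersion e ∧ e ≫ s = CohB1.ProjSpace.toSpec 1 Ω ∧
    Set.range e = Z

theorem irreducibleSpace_of_range {A P : Type*} [TopologicalSpace A] [TopologicalSpace P]
    {c : A → P} (hc : IsEmbedding c) (h : IsIrreducible (Set.range c)) : IrreducibleSpace A := by
  have h1 : IrreducibleSpace (Set.range c) := Subtype.irreducibleSpace h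
  let e := hc.toHomeomorph.symm
  have h2 := (IrreducibleSpace.isIrreducible_univ (Set.range c)).image e e.continuous.continuousOn
  rw [Set.image_univ, e.surjective.range_eq] at h2
  have h3 : PreirreducibleSpace A := ⟨h2.2⟩
  exact { toNonempty := let ⟨x, _⟩ := h2.1; ⟨x⟩ }

/-- Two reduced closed subschemes with the same support are isomorphic. -/
theorem exists_iso_of_range {A B P : Scheme.{u}} (c : A ⟶ P) (e : B ⟶ P) [IsClosedImmersion c]
    [IsClosedImmersion e] [IsReduced A] [IsReduced B] (h : Set.range c = Set.range e) :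
    ∃ u : B ⟶ A, IsIso u ∧ u ≫ c = e := by
  have h1 : Surjective (pullback.snd c e) := ⟨fun b => by
    have h0 : e b ∈ Set.range c := by rw [h]; exact ⟨b, rfl⟩
    obtain ⟨a, ha⟩ := h0
    obtain ⟨z, -, hz⟩ := Scheme.Pullback.exists_preimage_pullback a b ha
    exact ⟨z, hz⟩⟩
  have h2 : IsIso (pullback.snd c e) := isIso_of_isClosedImmersion_of_surjective _
  let u := inv (pullback.snd c e) ≫ pullback.fst c e
  have hu : u ≫ c = e := by
    rw [Category.assoc, pullback.condition, IsIso.inv_hom_id_assoc]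
  have h3 : IsClosedImmersion (u ≫ c) := by rw [hu]; infer_instance
  have h4 : IsClosedImmersion u := .of_comp u c
  have h5 : Surjective u := ⟨fun a => by
    have h0 : c a ∈ Set.range e := by rw [← h]; exact ⟨a, rfl⟩
    obtain ⟨b, hb⟩ := h0
    exact ⟨b, c.isClosedEmbedding.injective (by rw [← Scheme.Hom.comp_apply, hu, hb])⟩⟩
  exact ⟨u, isIso_of_isClosedImmersion_of_surjective u, hu⟩

theorem isP1On_iff {Ω : Type u} [Field Ω] {A P : Scheme.{u}} (s : P ⟶ Spec (CommRingCat.of Ω))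
    (c : A ⟶ P) [IsClosedImmersion c] [IsReduced A] {Z : Set P} (hZ : Set.range c = Z) :
    IsP1On Ω s Z ↔ IsP1 Ω (c ≫ s) := by
  constructor
  · rintro ⟨e, he, h1, h2⟩
    obtain ⟨u, hu, h3⟩ := exists_iso_of_range c e (hZ.trans h2.symm)
    exact ⟨u, hu, by rw [← Category.assoc, h3, h1]⟩
  · rintro ⟨e, he, h1⟩
    refine ⟨e ≫ c, inferInstance, by rw [Category.assoc, h1], ?_⟩
    rw [← hZ]
    ext x
    constructor
    · rintro ⟨y, rfl⟩
      exact ⟨e y, by rw [Scheme.Hom.comp_apply]⟩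
    · rintro ⟨y, rfl⟩
      obtain ⟨z, rfl⟩ := e.surjective y
      exact ⟨z, by rw [Scheme.Hom.comp_apply]⟩

theorem isP1On_iff_of_iso {Ω : Type u} [Field Ω] {P P' : Scheme.{u}}
    {s : P ⟶ Spec (CommRingCat.of Ω)} {s' : P' ⟶ Spec (CommRingCat.of Ω)} (e : P ≅ P')
    (he : e.hom ≫ s' = s) {Z : Set P} {Z' : Set P'} (hZ : Z = e.hom ⁻¹' Z') :
    IsP1On Ω s Z ↔ IsP1On Ω s' Z' := by
  constructor
  · rintro ⟨a, ha, h1, h2⟩
    refine ⟨a ≫ e.hom, inferInstance, by rw [Category.assoc, he, h1], ?_⟩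
    ext x
    constructor
    · rintro ⟨y, rfl⟩
      have h3 : a y ∈ Z := h2 ▸ ⟨y, rfl⟩
      rw [hZ] at h3
      rw [Scheme.Hom.comp_apply]; exact h3
    · intro hx
      have h3 : e.inv x ∈ Z := by
        rw [hZ]
        change e.hom (e.inv x) ∈ Z'
        rw [← Scheme.Hom.comp_apply, e.inv_hom_id]
        exact hx
      rw [← h2] at h3
      obtain ⟨y, hy⟩ := h3
      refine ⟨y, ?_⟩
      rw [Scheme.Hom.comp_apply, hy, ← Scheme.Hom.comp_apply, e.inv_hom_id]
      rfl
  · rintro ⟨a, ha, h1, h2⟩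
    refine ⟨a ≫ e.inv, inferInstance, ?_, ?_⟩
    · rw [Category.assoc, ← he, e.inv_hom_id_assoc, h1]
    ext x
    constructor
    · rintro ⟨y, rfl⟩
      rw [hZ]
      change e.hom ((a ≫ e.inv) y) ∈ Z'
      rw [← Scheme.Hom.comp_apply, Category.assoc, e.inv_hom_id, Category.comp_id, ← h2]
      exact ⟨y, rfl⟩
    · intro hx
      rw [hZ] at hx
      have h3 : e.hom x ∈ Set.range a := h2 ▸ hx
      obtain ⟨y, hy⟩ := h3
      refine ⟨y, ?_⟩
      rw [Scheme.Hom.comp_apply, hy, ← Scheme.Hom.comp_apply, e.hom_inv_id]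
      rfl

theorem dich_isP1On_aux {X Y T : Scheme.{u}} (q : Y ⟶ T) (j : X ⟶ Y) [IsClosedImmersion j]
    [IsNoetherian T] [IsIntegral T] [LocallyOfFiniteType (j ≫ q)] [QuasiCompact (j ≫ q)]
    [Flat (j ≫ q)] (V : T.Opens) (hV : (V : Set T).Nonempty) [GeometricallyReduced ((j ≫ q) ∣_ V)]
    {W : Set Y} (hW : Set.range j = W)
    (hirr : ∀ (Ω : Type u) [Field Ω] [IsAlgClosed Ω] (g : Spec (CommRingCat.of Ω) ⟶ T),
      IsIrreducible (pullback.fst q g ⁻¹' W)) :
    Dich T (fun Ω _ _ g => IsP1On Ω (pullback.snd q g) (pullback.fst q g ⁻¹' W)) := by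
  have key : ∀ (Ω : Type u) [Field Ω] [IsAlgClosed Ω] (g : Spec (CommRingCat.of Ω) ⟶ T),
      g (IsLocalRing.closedPoint Ω) ∈ V → IsIntegral (pullback (j ≫ q) g) := by
    intro Ω _ _ g hg
    obtain ⟨g', b, -, sq, -⟩ := exists_restrict (j ≫ q) V g hg (IsPullback.of_hasPullback (j ≫ q) g)
    have h1 : AlgebraicGeometry.IsReduced (pullback (j ≫ q) g) :=
      GeometricallyReduced.geometrically_isReduced (f := (j ≫ q) ∣_ V) g' _ _ sq
    obtain ⟨c, h2, h3⟩ := exists_comp q j (IsPullback.of_hasPullback q g)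
    have hc : IsClosedImmersion c := MorphismProperty.of_isPullback h2 ‹_›
    have h4 : Set.range c = pullback.fst q g ⁻¹' W := by rw [range_snd h2, hW]
    have h5 : IrreducibleSpace ↥(pullback (j ≫ q) g) :=
      irreducibleSpace_of_range c.isClosedEmbedding.isEmbedding (h4 ▸ hirr Ω g)
    exact isIntegral_of_irreducibleSpace_of_isReduced _
  refine (dich_isP1 (j ≫ q) V hV key).congr_on V hV fun Ω _ _ g hg => ?_
  obtain ⟨c, h2, h3⟩ := exists_comp q j (IsPullback.of_hasPullback q g)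
  have hc : IsClosedImmersion c := MorphismProperty.of_isPullback h2 ‹_›
  have h4 : Set.range c = pullback.fst q g ⁻¹' W := by rw [range_snd h2, hW]
  have h5 := key Ω g hg
  rw [isP1On_iff (pullback.snd q g) c h4, h3]

/-- For a closed subset with irreducible geometric fibres, being a projective line is generically
constant. -/
theorem dich_isP1On {Y T : Scheme.{u}} (q : Y ⟶ T) [LocallyOfFiniteType q] [QuasiCompact q]
    [IsNoetherian T] [IsIntegral T] (W : Closeds Y)
    (hirr : ∀ (Ω : Type u) [Field Ω] [IsAlgClosed Ω] (g : Spec (CommRingCat.of Ω) ⟶ T)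
      (P : Scheme.{u}) (p : P ⟶ Y) (s : P ⟶ Spec (CommRingCat.of Ω)), IsPullback p s q g →
      IsIrreducible (p ⁻¹' (W : Set Y))) :
    Dich T (fun Ω _ _ g => IsP1On Ω (pullback.snd q g) (pullback.fst q g ⁻¹' (W : Set Y))) := by
  obtain ⟨V, T₁, g₁, X', r, hT₁, hV, haff, hfin, huh, hrc, hrs, hX', hflat, hlfp, hqc, hqs, hgr⟩ :=
    Groth.Agent.S1358.result (redι W ≫ q)
  have hneV : Nonempty V := by
    obtain ⟨y, hy⟩ := hV
    exact ⟨⟨y, hy⟩⟩
  have hVn : IsNoetherian (V : Scheme.{u}) := isNoetherian_opens V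
  have hln : IsLocallyNoetherian T₁ := LocallyOfFiniteType.isLocallyNoetherian g₁
  have hn : IsNoetherian T₁ := {}
  have hsurj : Surjective g₁ := by
    have h1 : IsHomeomorph g₁ := huh (𝟙 _) (𝟙 _) g₁ (IsPullback.of_vert_isIso ⟨by simp⟩)
    exact ⟨h1.surjective⟩
  let h₁ : T₁ ⟶ T := g₁ ≫ V.ι
  have hgen : h₁ (genericPoint T₁) = genericPoint T := by
    have h3 : V.ι (genericPoint V) = genericPoint T := genericPoint_eq_of_isOpenImmersion V.ι
    have h2 : g₁ (genericPoint T₁) = genericPoint V := by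
      have h4 : IsGenericPoint (g₁ (genericPoint T₁)) (closure (Set.range g₁)) := by
        have h5 := (genericPoint_spec T₁).image g₁.continuous
        rwa [Set.image_univ] at h5
      rw [hsurj.1.range_eq, closure_univ] at h4
      exact h4.eq (genericPoint_spec V)
    rw [Scheme.Hom.comp_apply, h2, h3]
  refine Dich.of_cover h₁ hgen ?_
  let q₁ := pullback.snd q h₁
  obtain ⟨c₁, hc₁, h1, h2⟩ := exists_closed_comp q W (IsPullback.of_hasPullback q h₁)
  let j₁ : X' ⟶ pullback q h₁ := r ≫ c₁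
  have hj : j₁ ≫ q₁ = r ≫ pullback.snd (redι W ≫ q) (g₁ ≫ V.ι) := by
    change (r ≫ c₁) ≫ _ = _
    rw [Category.assoc, h1]
  have hj₁ : IsClosedImmersion j₁ := inferInstance
  have hjr : Set.range j₁ = pullback.fst q h₁ ⁻¹' (W : Set Y) := by
    rw [← h2]
    ext x
    constructor
    · rintro ⟨y, rfl⟩
      exact ⟨r y, by rw [← Scheme.Hom.comp_apply]⟩
    · rintro ⟨y, rfl⟩
      obtain ⟨z, rfl⟩ := hrs.1 y
      exact ⟨z, by rw [Scheme.Hom.comp_apply]⟩
  have i1 : Flat (j₁ ≫ q₁) := by rw [hj]; exact hflat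
  have i2 : LocallyOfFinitePresentation (j₁ ≫ q₁) := by rw [hj]; exact hlfp
  have i3 : QuasiCompact (j₁ ≫ q₁) := by rw [hj]; exact hqc
  have i4 : GeometricallyReduced ((j₁ ≫ q₁).fiberToSpecResidueField (genericPoint T₁)) := by
    rw [hj]; exact hgr
  obtain ⟨V₁, hV₁, i5⟩ := Groth.Agent.S0434.result (j₁ ≫ q₁) i4
  have key := dich_isP1On_aux q₁ j₁ V₁ hV₁ hjr (fun Ω _ _ g => by
    have h3 : IsPullback (pullback.fst q₁ g ≫ pullback.fst q h₁) (pullback.snd q₁ g) q (g ≫ h₁) :=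
      ((IsPullback.of_hasPullback q₁ g).flip.paste_vert (IsPullback.of_hasPullback q h₁).flip).flip
    have h4 := hirr Ω (g ≫ h₁) _ _ _ h3
    have e : (pullback.fst q₁ g ≫ pullback.fst q h₁) ⁻¹' (W : Set Y) =
        pullback.fst q₁ g ⁻¹' (pullback.fst q h₁ ⁻¹' (W : Set Y)) := by
      ext x; simp
    rwa [e] at h4)
  refine key.congr fun Ω _ _ g => ?_
  refine isP1On_iff_of_iso (pullbackLeftPullbackSndIso q h₁ g)
    (pullbackLeftPullbackSndIso_hom_snd q h₁ g) ?_
  have e : (pullbackLeftPullbackSndIso q h₁ g).hom ≫ pullback.fst q (g ≫ h₁) =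
      pullback.fst q₁ g ≫ pullback.fst q h₁ := pullbackLeftPullbackSndIso_hom_fst q h₁ g
  ext x
  change pullback.fst q h₁ (pullback.fst q₁ g x) ∈ (W : Set Y) ↔
    pullback.fst q (g ≫ h₁) ((pullbackLeftPullbackSndIso q h₁ g).hom x) ∈ (W : Set Y)
  rw [← Scheme.Hom.comp_apply, ← Scheme.Hom.comp_apply, e]

end K342.P1Red
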