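import Groth.Agent.SSMod.K342.Dat
import Groth.Agent.SSMod.K342.P1Red
import Groth.Agent.SSMod.K342.Radic
import Groth.Agent.S2155

/-!
# Exceptional components of the geometric fibres of a flat family
-/

set_option autoImplicit false
set_option linter.unusedVariables false
universe u
open CategoryTheory AlgebraicGeometry CategoryTheory.Limits Topology TopologicalSpace

namespace K342.ExcDich

open K342.Dich K342.GComp K342.Radic K342.P1Red K342.P1Locus K342.Dat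

theorem nonsmoothPts_eq {X S : Scheme.{u}} (f : X ⟶ S) [LocallyOfFinitePresentation f] :
    DualGr.nonsmoothPts f = (f.smoothLocus : Set X)ᶜ := rfl

theorem isClosed_nonsmoothPts {X S : Scheme.{u}} (f : X ⟶ S) [LocallyOfFinitePresentation f] :
    IsClosed (DualGr.nonsmoothPts f) := by
  rw [nonsmoothPts_eq]
  exact f.smoothLocus.2.isClosed_compl

theorem nonsmoothPts_preimage {X S X' S' : Scheme.{u}} {f : X ⟶ S} {g : S' ⟶ S} {f' : X' ⟶ S'}
    {g' : X' ⟶ X} (h : IsPullback g' f' f g) [LocallyOfFinitePresentation f]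
    (hf : Flat f ∨ Flat g) :
    DualGr.nonsmoothPts f' = g' ⁻¹' DualGr.nonsmoothPts f := by
  have hf' : LocallyOfFinitePresentation f' := MorphismProperty.of_isPullback h ‹_›
  rw [nonsmoothPts_eq, nonsmoothPts_eq, Groth.Agent.S2155.result f g f' g' h hf]
  rfl

section Transfer

variable {P P' Y T K : Scheme.{u}} {q : Y ⟶ T} {g : K ⟶ T} {p : P ⟶ Y} {s : P ⟶ K}
  {p' : P' ⟶ Y} {s' : P' ⟶ K}

theorem exists_sq_iso (h : IsPullback p s q g) (h' : IsPullback p' s' q g) :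
    ∃ e : P ≅ P', e.hom ≫ p' = p ∧ e.hom ≫ s' = s :=
  ⟨h.isoIsPullback _ _ h', h.isoIsPullback_hom_fst _ _ h', h.isoIsPullback_hom_snd _ _ h'⟩

theorem sq_encard (h : IsPullback p s q g) (h' : IsPullback p' s' q g) (Z : Set Y) :
    (p ⁻¹' Z).encard = (p' ⁻¹' Z).encard := by
  obtain ⟨e, h1, -⟩ := exists_sq_iso h h'
  have h2 : p ⁻¹' Z = e.hom ⁻¹' (p' ⁻¹' Z) := by
    rw [← h1]
    ext x
    simp
  rw [h2]
  exact Set.encard_preimage_of_bijective (Scheme.homeoOfIso e).bijective _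

theorem sq_subsingleton (h : IsPullback p s q g) (h' : IsPullback p' s' q g) (Z : Set Y) :
    (p ⁻¹' Z).Subsingleton ↔ (p' ⁻¹' Z).Subsingleton := by
  rw [← Set.encard_le_one_iff_subsingleton, ← Set.encard_le_one_iff_subsingleton, sq_encard h h']

end Transfer

theorem sq_isP1On {P P' Y T : Scheme.{u}} {Ω : Type u} [Field Ω] {q : Y ⟶ T}
    {g : Spec (CommRingCat.of Ω) ⟶ T} {p : P ⟶ Y} {s : P ⟶ Spec (CommRingCat.of Ω)}
    {p' : P' ⟶ Y} {s' : P' ⟶ Spec (CommRingCat.of Ω)}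
    (h : IsPullback p s q g) (h' : IsPullback p' s' q g) (Z : Set Y) :
    IsP1On Ω s (p ⁻¹' Z) ↔ IsP1On Ω s' (p' ⁻¹' Z) := by
  obtain ⟨e, h1, h2⟩ := exists_sq_iso h h'
  refine isP1On_iff_of_iso e h2 ?_
  rw [← h1]
  ext x
  simp

variable {T : Scheme.{u}} (d : Dat T)

/-- Exceptional components in terms of the family. -/
theorem isExcComp_iff [LocallyOfFinitePresentation (d.f ≫ d.φ)] [Flat (d.f ≫ d.φ)]
    {Ω : Type u} [Field Ω] (g : Spec (CommRingCat.of Ω) ⟶ T) {d' : Dat (Spec (CommRingCat.of Ω))}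
    (e : BC g d' d) (W : Set d.Y) :
    SSMod.IsExcComp Ω d'.f (d'.f ≫ d'.φ) (Set.range d'.i) (e.b ⁻¹' W) ↔
      IsP1On Ω (pullback.snd (d.f ≫ d.φ) g) (pullback.fst (d.f ≫ d.φ) g ⁻¹' W) ∧
      (pullback.fst (d.f ≫ d.φ) g ⁻¹'
        (W ∩ (Set.range d.i ∪ DualGr.nonsmoothPts (d.f ≫ d.φ)))).encard ≤ (2 : ℕ) ∧
      (pullback.fst d.φ g ⁻¹' (d.f '' W)).Subsingleton := by
  refine and_congr ?_ (and_congr ?_ ?_)
  · exact sq_isP1On e.sqq (IsPullback.of_hasPullback _ _) W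
  · have h1 : e.b ⁻¹' W ∩ (Set.range d'.i ∪ DualGr.nonsmoothPts (d'.f ≫ d'.φ)) =
        e.b ⁻¹' (W ∩ (Set.range d.i ∪ DualGr.nonsmoothPts (d.f ≫ d.φ))) := by
      rw [range_snd e.sqD, nonsmoothPts_preimage e.sqq (Or.inl ‹_›)]
      rfl
    rw [h1, sq_encard e.sqq (IsPullback.of_hasPullback _ _)]
    rfl
  · have h1 : d'.f '' (e.b ⁻¹' W) = e.a ⁻¹' (d.f '' W) :=
      Scheme.image_preimage_eq_of_isPullback e.sqY W
    rw [← sq_subsingleton e.sqC (IsPullback.of_hasPullback _ _), ← h1]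

/-- Having exceptional components is generically constant. -/
theorem dich_hasExc [IsNoetherian T] [IsIntegral T] (hd : Good d) [Flat (d.f ≫ d.φ)] :
    Dich T (fun Ω _ _ g => ∃ d' : Dat (Spec (CommRingCat.of Ω)), Nonempty (BC g d' d) ∧
      HasExc Ω d') := by
  have := hd.lft_q
  have := hd.qc_q
  obtain ⟨T', h, hT'i, hT'n, hlft, ι, hι, W, hgen, hW⟩ := exists_gc (d.f ≫ d.φ)
  let d₁ := d.bc h
  let e₁ : BC h d₁ d := d.bcBC h
  have hd₁ : Good d₁ := hd.bc e₁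
  have hW' : IsGC (d₁.f ≫ d₁.φ) W := by
    rw [Dat.bc_snd]
    exact hW
  have i1 := hd₁.lft
  have i2 := hd₁.qc
  have i3 := hd₁.proper
  have i4 := hd₁.cl
  have i5 := hd₁.lft_q
  have i6 := hd₁.qc_q
  have i7 : Flat (d₁.f ≫ d₁.φ) := MorphismProperty.of_isPullback e₁.sqq ‹Flat (d.f ≫ d.φ)›
  have i8 : LocallyOfFinitePresentation (d₁.f ≫ d₁.φ) :=
    LocallyOfFinitePresentation.iff_locallyOfFiniteType.2 inferInstance
  refine Dich.of_cover h hgen ?_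
  have hcl : ∀ j, IsClosed (W j ∩ (Set.range d₁.i ∪ DualGr.nonsmoothPts (d₁.f ≫ d₁.φ))) := fun j =>
    (hW'.isClosed j).inter (d₁.i.isClosedEmbedding.isClosed_range.union
      (isClosed_nonsmoothPts (d₁.f ≫ d₁.φ)))
  have hcf : ∀ j, IsClosed (d₁.f '' W j) := fun j => d₁.f.isClosedMap _ (hW'.isClosed j)
  have key := Dich.finite_exists (T := T') fun j =>
    (dich_isP1On (d₁.f ≫ d₁.φ) (⟨W j, hW'.isClosed j⟩ : Closeds _)
      (fun Ω _ _ g P p s hP => (hW'.compsAt Ω g P p s hP).irr j)).and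
    ((dich_encard (d₁.f ≫ d₁.φ) (⟨_, hcl j⟩ : Closeds _) 2).and
      (dich_preimage_subsingleton d₁.φ (⟨_, hcf j⟩ : Closeds _)))
  refine key.congr fun Ω _ _ g => ?_
  constructor
  · rintro ⟨j, hj⟩
    let E : BC g (d₁.bc g) d₁ := d₁.bcBC g
    refine ⟨d₁.bc g, ⟨E.comp e₁⟩, E.b ⁻¹' W j, ?_, (isExcComp_iff d₁ g E (W j)).2 hj⟩
    rw [(hW'.compsAt Ω g _ _ _ E.sqq).irreducibleComponents_eq hW'.isClosed]
    exact ⟨j, rfl⟩
  · rintro ⟨d', ⟨E'⟩, Z, hZ, hexc⟩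
    obtain ⟨E, -⟩ := e₁.exists_lift E'
    rw [(hW'.compsAt Ω g _ _ _ E.sqq).irreducibleComponents_eq hW'.isClosed] at hZ
    obtain ⟨j, rfl⟩ := hZ
    exact ⟨j, (isExcComp_iff d₁ g E (W j)).1 hexc⟩

end K342.ExcDich
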