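import Groth.Agent.SSMod.K342.ExcDich
import Groth.Agent.S1591
import Groth.Agent.S1592
import Groth.Agent.S0414
import Groth.Agent.Ega43.LocusUnram
import Groth.Agent.Sga7.H734.NodalBC

/-!
# The condition on geometric points is generically constant
-/

set_option autoImplicit false
set_option linter.unusedVariables false
universe u
open CategoryTheory AlgebraicGeometry CategoryTheory.Limits Topology TopologicalSpace

namespace K342.FlatDich

open K342.Dich K342.GComp K342.ExcDich K342.Dat Groth.Agent Groth.Agent.Ega43.Locus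

/-- Nodal geometric fibres. -/
theorem exists_nodal {X T : Scheme.{u}} (q : X ⟶ T) [Flat q] [LocallyOfFinitePresentation q] :
    ∃ U : X.Opens, ∀ (Ω : Type u) [Field Ω] (g : Spec (CommRingCat.of Ω) ⟶ T)
      (P : Scheme.{u}) (p : P ⟶ X) (s : P ⟶ Spec (CommRingCat.of Ω)), IsPullback p s q g →
      (Curv2.IsNodalFamily s ↔ g (IsLocalRing.closedPoint Ω) ∉ q '' (U : Set X)ᶜ) := by
  obtain ⟨U, ⟨hU, -⟩, hbc⟩ := S1591.result q
  refine ⟨U, fun Ω _ g P p s hP => ?_⟩
  constructor
  · rintro hs ⟨y, hy, e⟩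
    obtain ⟨i, hi1, hi2⟩ := exists_sq_iso (IsPullback.of_hasPullback q g) hP
    have h1 : IsPullback i.hom (pullback.snd q g) s (𝟙 _) :=
      IsPullback.of_horiz_isIso ⟨by rw [hi2, Category.comp_id]⟩
    have h2 : Curv2.IsNodalFamily (pullback.snd q g) :=
      Sga7.H734.NodalBC.isNodalFamily_of_isPullback h1 hs
    have h3 := (hbc _ g).2 ⊤ (S1592.result _ h2 _)
    obtain ⟨z, hz, -⟩ := Scheme.Pullback.exists_preimage_pullback (f := q) (g := g) y
      (IsLocalRing.closedPoint Ω) e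
    have h4 : z ∈ pullback.fst q g ⁻¹ᵁ U := h3 trivial
    exact hy (hz ▸ h4)
  · intro hg
    have h1 : Set.range p ⊆ Set.range U.ι := by
      rintro _ ⟨x, rfl⟩
      rw [Scheme.Opens.range_ι]
      by_contra hx
      refine hg ⟨p x, hx, ?_⟩
      rw [← Scheme.Hom.comp_apply, hP.w, Scheme.Hom.comp_apply]
      exact congrArg g (Subsingleton.elim (α := PrimeSpectrum Ω) _ _)
    let l : P ⟶ U := IsOpenImmersion.lift U.ι p h1
    have hl : l ≫ U.ι = p := IsOpenImmersion.lift_fac _ _ _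
    have h2 : IsPullback l s (U.ι ≫ q) g := by
      have h3 : IsPullback l (𝟙 P) U.ι p := by
        refine ⟨⟨by rw [hl, Category.id_comp]⟩, ⟨PullbackCone.IsLimit.mk _ (fun c => c.snd) ?_ ?_ ?_⟩⟩
        · intro c
          rw [← cancel_mono U.ι, Category.assoc, hl]
          exact c.condition.symm
        · intro c
          exact Category.comp_id _
        · intro c m h4 h5
          rw [← h5, Category.comp_id]
      have h4 := h3.paste_vert hP
      rwa [Category.id_comp] at h4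
    exact Sga7.H734.NodalBC.isNodalFamily_of_isPullback h2 hU

/-- Unramified geometric fibres. -/
theorem exists_unram {X T : Scheme.{u}} (q : X ⟶ T) [LocallyOfFiniteType q] [QuasiCompact q]
    [IsNoetherian T] : ∃ E : Set T, IsLocallyConstructible E ∧
      ∀ (Ω : Type u) [Field Ω] (g : Spec (CommRingCat.of Ω) ⟶ T)
      (P : Scheme.{u}) (p : P ⟶ X) (s : P ⟶ Spec (CommRingCat.of Ω)), IsPullback p s q g →
      (FormallyUnramified s ↔ g (IsLocalRing.closedPoint Ω) ∈ E) := by
  have hfp : LocallyOfFinitePresentation q :=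
    LocallyOfFinitePresentation.iff_locallyOfFiniteType.2 inferInstance
  have hXn : IsLocallyNoetherian X := LocallyOfFiniteType.isLocallyNoetherian q
  have hqs : QuasiSeparated q := inferInstance
  refine ⟨locus @FormallyUnramified q (𝟙 T),
    Ega43.LocusUnram.isLocallyConstructible_locus_formallyUnramified q (𝟙 T)
      ⟨inferInstance, inferInstance, inferInstance⟩ ⟨inferInstance, inferInstance, inferInstance⟩,
    fun Ω _ g P p s hP => ?_⟩
  have hY : IsPullback g (𝟙 _) (𝟙 T) g := IsPullback.of_vert_isIso ⟨by simp⟩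
  exact (mem_locus_iff_of_field Ega43.LocusUnram.fpqcInv_formallyUnramified hY hP).symm

variable {T : Scheme.{u}} (d : Dat T)

/-- The flat case. -/
theorem dich_flat [IsNoetherian T] [IsIntegral T] (hd : Good d) [Flat (d.f ≫ d.φ)] :
    Dich T (P d) := by
  have i1 := hd.lft
  have i2 := hd.qc
  have i3 := hd.proper
  have i4 := hd.cl
  have i5 := hd.lft_q
  have i6 := hd.qc_q
  have i7 : LocallyOfFinitePresentation (d.f ≫ d.φ) :=
    LocallyOfFinitePresentation.iff_locallyOfFiniteType.2 inferInstance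
  have i8 : IsLocallyNoetherian d.Y := LocallyOfFiniteType.isLocallyNoetherian (d.f ≫ d.φ)
  have i9 : CompactSpace d.Y := QuasiCompact.compactSpace_of_compactSpace (d.f ≫ d.φ)
  have i10 : IsNoetherian d.Y := ⟨⟩
  obtain ⟨U, hU⟩ := exists_nodal (d.f ≫ d.φ)
  have h1 : IsLocallyConstructible ((d.f ≫ d.φ) '' (U : Set d.Y)ᶜ)ᶜ :=
    isLC_compl ((d.f ≫ d.φ).isLocallyConstructible_image (isLC_of_isClosed U.2.isClosed_compl))
  obtain ⟨E, h2, hE⟩ := exists_unram (d.i ≫ d.f ≫ d.φ)
  let M : Set d.Y := Set.range d.i ∩ DualGr.nonsmoothPts (d.f ≫ d.φ)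
  have hM : IsClosed M := d.i.isClosedEmbedding.isClosed_range.inter
    (isClosed_nonsmoothPts (d.f ≫ d.φ))
  have h3 : IsLocallyConstructible ((d.f ≫ d.φ) '' M)ᶜ :=
    isLC_compl ((d.f ≫ d.φ).isLocallyConstructible_image (isLC_of_isClosed hM))
  have key := (Dich.of_isLocallyConstructible h1).and ((Dich.of_isLocallyConstructible h2).and
    ((Dich.of_isLocallyConstructible h3).and (dich_hasExc d hd).not))
  refine key.congr fun Ω _ _ g => ?_
  have hdisj : ∀ {d' : Dat (Spec (CommRingCat.of Ω))} (e : BC g d' d),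
      Disjoint (Set.range d'.i) (DualGr.nonsmoothPts (d'.f ≫ d'.φ)) ↔
        g (IsLocalRing.closedPoint Ω) ∈ ((d.f ≫ d.φ) '' M)ᶜ := by
    intro d' e
    rw [range_snd e.sqD, nonsmoothPts_preimage e.sqq (Or.inl ‹_›), Set.disjoint_iff_inter_eq_empty,
      ← Set.preimage_inter]
    constructor
    · rintro h ⟨y, hy, e1⟩
      obtain ⟨x, hx, -⟩ := Scheme.exists_preimage_of_isPullback e.sqq y
        (IsLocalRing.closedPoint Ω) e1
      have : x ∈ e.b ⁻¹' M := by
        change e.b x ∈ M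
        rw [hx]; exact hy
      rw [h] at this
      exact this
    · intro h
      rw [Set.eq_empty_iff_forall_notMem]
      intro x hx
      refine h ⟨e.b x, hx, ?_⟩
      rw [← Scheme.Hom.comp_apply, e.sqq.w, Scheme.Hom.comp_apply]
      exact congrArg g (Subsingleton.elim (α := PrimeSpectrum Ω) _ _)
  constructor
  · rintro ⟨c1, c2, c3, c4⟩ d' ⟨e⟩
    exact ⟨(hU Ω g _ _ _ e.sqq).2 c1, (hE Ω g _ _ _ e.sqDD).2 c2, (hdisj e).2 c3,
      fun h => c4 ⟨d', ⟨e⟩, h⟩⟩
  · intro h
    have h0 := h (d.bc g) ⟨d.bcBC g⟩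
    refine ⟨(hU Ω g _ _ _ (d.bcBC g).sqq).1 h0.nodal, (hE Ω g _ _ _ (d.bcBC g).sqDD).1 h0.unram,
      (hdisj (d.bcBC g)).1 h0.disj, ?_⟩
    rintro ⟨d', hd', he⟩
    exact (h d' hd').noExc he

/-- The general case. -/
theorem dich [IsNoetherian T] [IsIntegral T] (hd : Good d) : Dich T (P d) := by
  have i5 := hd.lft_q
  have i6 := hd.qc_q
  obtain ⟨V, hV, hVf⟩ : ∃ V : T.Opens, (V : Set T).Nonempty ∧ Flat ((d.f ≫ d.φ) ∣_ V) := by
    obtain ⟨V, hV, hVf, -⟩ := S0414.result (d.f ≫ d.φ)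
    exact ⟨V, hV.nonempty, hVf⟩
  refine Dich.of_open V hV ?_
  have hne : Nonempty V := by
    obtain ⟨y, hy⟩ := hV
    exact ⟨⟨y, hy⟩⟩
  have hVn : IsNoetherian (V : Scheme.{u}) := isNoetherian_opens V
  let e : BC V.ι (d.bc V.ι) d := d.bcBC V.ι
  have hf : Flat ((d.bc V.ι).f ≫ (d.bc V.ι).φ) := by
    obtain ⟨i, hi1, hi2⟩ := exists_sq_iso e.sqq (isPullback_morphismRestrict (d.f ≫ d.φ) V).flip
    rw [← hi2]
    infer_instance
  exact (dich_flat (d.bc V.ι) (hd.bc e)).congr fun Ω _ _ g => P_bc e Ω g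

end K342.FlatDich
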