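import Groth.Agent.SSMod.K342.Dich
import Groth.Agent.S1357
import Groth.Agent.S0419
import Groth.Agent.S4623
import Groth.Agent.SSMod.K342.EtRed
import Groth.Agent.Ega43.Locus
import Groth.Agent.S3402

/-!
# Spreading out of the irreducible components of the geometric fibres
-/

set_option autoImplicit false
set_option linter.unusedSectionVars false
set_option linter.unusedVariables false
universe u
open CategoryTheory AlgebraicGeometry CategoryTheory.Limits Topology TopologicalSpace

namespace K342.GComp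

/-- The preimages of the members of `W` are irreducible, cover, and do not contain each other. -/
structure CompsAt {Y P : Scheme.{u}} {ι : Type u} (W : ι → Set Y) (p : P ⟶ Y) : Prop where
  irr : ∀ j, IsIrreducible (p ⁻¹' W j)
  cover : (⋃ j, p ⁻¹' W j) = Set.univ
  inj : ∀ j k, p ⁻¹' W j ⊆ p ⁻¹' W k → j = k

/-- `W` restricts to the family of irreducible components of every geometric fibre. -/
structure IsGC {Y T : Scheme.{u}} (q : Y ⟶ T) {ι : Type u} (W : ι → Set Y) : Prop where
  isClosed : ∀ j, IsClosed (W j)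
  compsAt : ∀ (Ω : Type u) [Field Ω] [IsAlgClosed Ω] (g : Spec (CommRingCat.of Ω) ⟶ T)
    (P : Scheme.{u}) (p : P ⟶ Y) (s : P ⟶ Spec (CommRingCat.of Ω)), IsPullback p s q g → CompsAt W p

theorem CompsAt.irreducibleComponents_eq {Y P : Scheme.{u}} {ι : Type u} [Finite ι] {W : ι → Set Y}
    {p : P ⟶ Y} (h : CompsAt W p) (hW : ∀ j, IsClosed (W j)) :
    irreducibleComponents (P : Type u) = Set.range fun j => p ⁻¹' W j := by
  classical
  have := Fintype.ofFinite ι
  have key : ∀ Z : Set P, IsIrreducible Z → ∃ j, Z ⊆ p ⁻¹' W j := by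
    intro Z hZ
    obtain ⟨z, hz, hz'⟩ := (isIrreducible_iff_sUnion_isClosed.1 hZ)
      (Finset.univ.image fun j => p ⁻¹' W j) (by
        intro z hz
        obtain ⟨j, -, rfl⟩ := Finset.mem_image.1 hz
        exact (hW j).preimage p.continuous) (by
        intro x _
        have hx : x ∈ (⋃ j, p ⁻¹' W j) := h.cover ▸ Set.mem_univ x
        obtain ⟨j, hj⟩ := Set.mem_iUnion.1 hx
        exact Set.mem_sUnion.2 ⟨p ⁻¹' W j, by simp, hj⟩)
    obtain ⟨j, -, rfl⟩ := Finset.mem_image.1 hz
    exact ⟨j, hz'⟩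
  ext Z
  constructor
  · intro hZ
    obtain ⟨j, hj⟩ := key Z hZ.prop
    exact ⟨j, (hZ.le_of_ge (h.irr j) hj).antisymm hj⟩
  · rintro ⟨j, rfl⟩
    refine ⟨h.irr j, fun Z' hZ' hle => ?_⟩
    obtain ⟨k, hk⟩ := key Z' hZ'
    have : j = k := h.inj j k (hle.trans hk)
    subst this
    exact hk

theorem IsGC.baseChange {Y T Y₁ T₁ : Scheme.{u}} {q : Y ⟶ T} {ι : Type u} {W : ι → Set Y}
    (h : IsGC q W) {a : Y₁ ⟶ Y} {q₁ : Y₁ ⟶ T₁} {b : T₁ ⟶ T} (sq : IsPullback a q₁ q b) :
    IsGC q₁ (fun j => a ⁻¹' W j) := by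
  refine ⟨fun j => (h.isClosed j).preimage a.continuous, fun Ω _ _ g P p s hp => ?_⟩
  have h1 := h.compsAt Ω (g ≫ b) P (p ≫ a) s (hp.flip.paste_vert sq.flip).flip
  have e : ∀ S : Set Y, (p ≫ a) ⁻¹' S = p ⁻¹' (a ⁻¹' S) := fun S => by
    ext x; simp
  refine ⟨fun j => ?_, ?_, fun j k hjk => ?_⟩
  · rw [← e]; exact h1.irr j
  · simpa only [e] using h1.cover
  · exact h1.inj j k (by rw [e, e]; exact hjk)

theorem range_snd {P X Y Z : Scheme.{u}} {fst : P ⟶ X} {snd : P ⟶ Y} {f : X ⟶ Z} {g : Y ⟶ Z}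
    (h : IsPullback fst snd f g) : Set.range snd = g ⁻¹' Set.range f := by
  ext y
  constructor
  · rintro ⟨p, rfl⟩
    exact ⟨fst p, by rw [← Scheme.Hom.comp_apply, h.w, Scheme.Hom.comp_apply]⟩
  · rintro ⟨x, hx⟩
    obtain ⟨p, -, hp⟩ := Scheme.exists_preimage_of_isPullback h x y hx
    exact ⟨p, hp⟩

/-- Comparison of two closed subschemes of the fibre with the same support. -/
theorem geometricallyIrreducible_of_range {k : Type u} [Field k] {F A : Scheme.{u}}
    (f : F ⟶ Spec (CommRingCat.of k)) (α : A ⟶ F) [IsClosedImmersion α] (Z : Closeds F)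
    (hr : Set.range α = Z)
    (h : GeometricallyIrreducible
      ((Scheme.IdealSheafData.vanishingIdeal Z).subschemeι ≫ f)) :
    GeometricallyIrreducible (α ≫ f) := by
  let β := (Scheme.IdealSheafData.vanishingIdeal Z).subschemeι
  have hβr : Set.range β = Z := by
    rw [Scheme.IdealSheafData.range_subschemeι, Scheme.IdealSheafData.coe_support_vanishingIdeal]
  have hker : α.ker ≤ β.ker := by
    rw [Scheme.IdealSheafData.ker_subschemeι, ← Scheme.IdealSheafData.le_support_iff_le_vanishingIdeal]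
    intro z hz
    have h2 : (α.ker.support : Set F) = Set.range α := by
      rw [Scheme.Hom.support_ker]
      exact α.isClosedEmbedding.isClosed_range.closure_eq
    change z ∈ (α.ker.support : Set F)
    rw [h2, hr]
    exact hz
  let γ := IsClosedImmersion.lift α β hker
  have hγ : γ ≫ α = β := IsClosedImmersion.lift_fac _ _ _
  have hs : Surjective γ := by
    refine ⟨fun a => ?_⟩
    have h1 : α a ∈ Set.range β := by rw [hβr, ← hr]; exact ⟨a, rfl⟩
    obtain ⟨b, hb⟩ := h1
    refine ⟨b, α.isClosedEmbedding.injective ?_⟩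
    rw [← Scheme.Hom.comp_apply, hγ, hb]
  exact @Groth.Agent.S4623.result k _ _ _ (β ≫ f) (α ≫ f) γ (by rw [← Category.assoc, hγ]) hs h

section Open

variable {Y T : Scheme.{u}} (q : Y ⟶ T)

theorem preimage_closure_image [IrreducibleSpace T] {Z : Set (q.fiber (genericPoint T))}
    (hZ : IsClosed Z) :
    q.fiberι (genericPoint T) ⁻¹' closure (q.fiberι (genericPoint T) '' Z) = Z := by
  have h := (q.fiberι (genericPoint T)).isEmbedding.closure_eq_preimage_closure_image Z
  rw [hZ.closure_eq] at h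
  exact h.symm

variable [IsIntegral T] [IsNoetherian T] [LocallyOfFiniteType q]
  [QuasiCompact q]

theorem exists_open_irr {Z : Set (q.fiber (genericPoint T))} (hZ : IsClosed Z)
    (h : GeometricallyIrreducible ((Scheme.IdealSheafData.vanishingIdeal ⟨Z, hZ⟩).subschemeι ≫
      q.fiberToSpecResidueField (genericPoint T))) :
    ∃ V : T.Opens, (V : Set T).Nonempty ∧ ∀ (Ω : Type u) [Field Ω] [IsAlgClosed Ω]
      (g : Spec (CommRingCat.of Ω) ⟶ T), g (IsLocalRing.closedPoint Ω) ∈ V →
      ∀ (P : Scheme.{u}) (p : P ⟶ Y) (s : P ⟶ Spec (CommRingCat.of Ω)), IsPullback p s q g →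
        IsIrreducible (p ⁻¹' closure (q.fiberι (genericPoint T) '' Z)) := by
  let η := genericPoint T
  let C : Closeds Y := ⟨closure (q.fiberι η '' Z), isClosed_closure⟩
  let i := (Scheme.IdealSheafData.vanishingIdeal C).subschemeι
  have hi : Set.range i = C := by
    rw [Scheme.IdealSheafData.range_subschemeι, Scheme.IdealSheafData.coe_support_vanishingIdeal]
  let α : pullback (i ≫ q) (T.fromSpecResidueField η) ⟶ q.fiber η :=
    Groth.Agent.Ega43.Locus.bcMap i q (T.fromSpecResidueField η)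
  have sq := Groth.Agent.Ega43.Locus.isPullback_bcMap i q (T.fromSpecResidueField η)
  have hα : IsClosedImmersion α := MorphismProperty.of_isPullback sq inferInstance
  have hαr : Set.range α = Z := by
    refine (range_snd sq).trans ?_
    rw [hi]
    exact preimage_closure_image q hZ
  have h1 : GeometricallyIrreducible (α ≫ q.fiberToSpecResidueField η) :=
    geometricallyIrreducible_of_range (k := T.residueField η) (q.fiberToSpecResidueField η) α
      ⟨Z, hZ⟩ hαr h
  have h2 : α ≫ q.fiberToSpecResidueField η = (i ≫ q).fiberToSpecResidueField η :=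
    pullback.lift_snd _ _ _
  rw [h2] at h1
  obtain ⟨V, hV, h3⟩ := Groth.Agent.S0419.result (i ≫ q) h1
  refine ⟨V, hV, fun Ω _ _ g hg P p s hP => ?_⟩
  -- lift `g` to `V`
  obtain ⟨g', hg', -⟩ := K342.Dich.exists_lift V.ι g (t' := ⟨_, hg⟩) rfl ⊤ trivial
  have sq2 : IsPullback (pullback.fst i p) (pullback.snd i p ≫ s) (i ≫ q) g :=
    (IsPullback.of_hasPullback i p).paste_vert hP
  have sq3 := (isPullback_morphismRestrict (i ≫ q) V).flip
  have hw : pullback.fst i p ≫ (i ≫ q) = ((pullback.snd i p ≫ s) ≫ g') ≫ V.ι := by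
    rw [Category.assoc _ g', hg', sq2.w]
  let b := sq3.lift (pullback.fst i p) ((pullback.snd i p ≫ s) ≫ g') hw
  have hb1 : b ≫ ((i ≫ q) ⁻¹ᵁ V).ι = pullback.fst i p := sq3.lift_fst _ _ _
  have hb2 : b ≫ ((i ≫ q) ∣_ V) = (pullback.snd i p ≫ s) ≫ g' := sq3.lift_snd _ _ _
  have sq4 : IsPullback b (pullback.snd i p ≫ s) ((i ≫ q) ∣_ V) g' := by
    refine IsPullback.of_right (h₁₂ := ((i ≫ q) ⁻¹ᵁ V).ι) (h₂₂ := V.ι) (v₁₃ := i ≫ q) ?_ hb2 sq3
    rw [hb1, hg']
    exact sq2
  have h4 : IrreducibleSpace ↥(pullback i p) :=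
    h3.geometrically_irreducibleSpace g' _ _ sq4
  have h5 : Set.range (pullback.snd i p) = p ⁻¹' C := by
    rw [range_snd (IsPullback.of_hasPullback i p), hi]
  change IsIrreducible (p ⁻¹' (C : Set Y))
  rw [← h5, ← Set.image_univ]
  exact (IrreducibleSpace.isIrreducible_univ _).image _ (pullback.snd i p).continuous.continuousOn

/-- Generic constructible sets. -/
theorem exists_open_of_mem {E : Set T} (hE : IsLocallyConstructible E) (h : genericPoint T ∈ E) :
    ∃ V : T.Opens, genericPoint T ∈ V ∧ (V : Set T) ⊆ E :=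
  ⟨⟨interior E, isOpen_interior⟩, K285.Elem.genericPoint_mem_interior
    ((Groth.Agent.S3402.result T _).1 hE).1 h, interior_subset⟩

theorem exists_open (hq : ∀ (Z : Set (q.fiber (genericPoint T)))
      (hZ : Z ∈ irreducibleComponents (q.fiber (genericPoint T))),
      GeometricallyIrreducible ((Scheme.IdealSheafData.vanishingIdeal
        (⟨Z, isClosed_of_mem_irreducibleComponents Z hZ⟩ : Closeds _)).subschemeι ≫
        q.fiberToSpecResidueField (genericPoint T))) :
    ∃ (V : T.Opens) (ι : Type u) (_ : Finite ι) (W : ι → Set Y), (V : Set T).Nonempty ∧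
      (∀ j, IsClosed (W j)) ∧ ∀ (Ω : Type u) [Field Ω] [IsAlgClosed Ω]
      (g : Spec (CommRingCat.of Ω) ⟶ T), g (IsLocalRing.closedPoint Ω) ∈ V →
      ∀ (P : Scheme.{u}) (p : P ⟶ Y) (s : P ⟶ Spec (CommRingCat.of Ω)), IsPullback p s q g →
        CompsAt W p := by
  classical
  let η := genericPoint T
  let a := q.fiberι η
  let F := q.fiber η
  have hfp : LocallyOfFinitePresentation q :=
    LocallyOfFinitePresentation.iff_locallyOfFiniteType.2 inferInstance
  have hYn : IsLocallyNoetherian Y := LocallyOfFiniteType.isLocallyNoetherian q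
  have hYc : CompactSpace Y := QuasiCompact.compactSpace_of_compactSpace q
  have hYN : IsNoetherian Y := {}
  have hFt : LocallyOfFiniteType (q.fiberToSpecResidueField η) :=
    MorphismProperty.pullback_snd _ _ inferInstance
  have hFn : IsLocallyNoetherian F := LocallyOfFiniteType.isLocallyNoetherian
    (q.fiberToSpecResidueField η)
  have hFc : CompactSpace F := inferInstanceAs (CompactSpace (q.fiber η))
  have hFN : IsNoetherian F := {}
  let ι : Type u := irreducibleComponents (F : Type u)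
  have hfin : Finite ι := TopologicalSpace.NoetherianSpace.finite_irreducibleComponents
  let W : ι → Set Y := fun Z => closure (a '' Z.1)
  have hWc : ∀ j, IsClosed (W j) := fun j => isClosed_closure
  have hW : ∀ j : ι, a ⁻¹' W j = j.1 := fun j =>
    preimage_closure_image q (isClosed_of_mem_irreducibleComponents _ j.2)
  -- (i) covering
  have hO : IsOpen (⋃ j, W j)ᶜ := (isClosed_iUnion_of_finite hWc).isOpen_compl
  have c1 : IsLocallyConstructible (q '' (⋃ j, W j)ᶜ) :=
    q.isLocallyConstructible_image (K342.Dich.isLC_of_isOpen hO)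
  have m1 : η ∈ (q '' (⋃ j, W j)ᶜ)ᶜ := by
    rintro ⟨y, hy, e⟩
    apply hy
    have h1 : y ∈ Set.range a := by
      rw [q.range_fiberι]; exact e
    obtain ⟨z, rfl⟩ := h1
    have h2 : z ∈ irreducibleComponent z := mem_irreducibleComponent
    refine Set.mem_iUnion.2 ⟨⟨irreducibleComponent z, irreducibleComponent_mem_irreducibleComponents z⟩,
      subset_closure ⟨z, h2, rfl⟩⟩
  obtain ⟨V1, hV1, hV1'⟩ := exists_open_of_mem (K342.Dich.isLC_compl c1) m1
  -- (ii) no inclusions
  have c2 : ∀ j k : ι, IsLocallyConstructible (q '' (W j \ W k)) := fun j k =>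
    q.isLocallyConstructible_image
      ((K342.Dich.isLC_of_isClosed (hWc j)).inter
        (K342.Dich.isLC_compl (K342.Dich.isLC_of_isClosed (hWc k))))
  have m2 : ∀ j k : ι, j ≠ k → η ∈ q '' (W j \ W k) := by
    intro j k hjk
    have h1 : ¬ (j.1 ⊆ k.1) := fun h => hjk (Subtype.ext
      ((j.2.eq_of_ge k.2.prop h)).symm)
    obtain ⟨z, hz, hz'⟩ := Set.not_subset.1 h1
    refine ⟨a z, ⟨subset_closure ⟨z, hz, rfl⟩, fun h => hz' ?_⟩, ?_⟩
    · rw [← hW k]; exact h
    · have h3 : a z ∈ Set.range a := ⟨z, rfl⟩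
      rw [q.range_fiberι] at h3
      exact h3
  have h2 : ∀ jk : ι × ι, ∃ V : T.Opens, η ∈ V ∧
      (jk.1 ≠ jk.2 → (V : Set T) ⊆ q '' (W jk.1 \ W jk.2)) := by
    intro jk
    by_cases hjk : jk.1 = jk.2
    · exact ⟨⊤, trivial, fun h => absurd hjk h⟩
    · obtain ⟨V, hV, hV'⟩ := exists_open_of_mem (c2 jk.1 jk.2) (m2 _ _ hjk)
      exact ⟨V, hV, fun _ => hV'⟩
  choose V2 hV2 hV2' using h2
  -- (iii) irreducibility
  have h3 : ∀ j : ι, ∃ V : T.Opens, (V : Set T).Nonempty ∧ _ := fun j =>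
    exists_open_irr q (isClosed_of_mem_irreducibleComponents _ j.2) (hq j.1 j.2)
  choose V3 hV3 hV3' using h3
  have g3 : ∀ j, η ∈ V3 j := fun j => by
    obtain ⟨y, hy⟩ := hV3 j
    exact (genericPoint_specializes y).mem_open (V3 j).2 hy
  let U : Set T := (V1 : Set T) ∩ (⋂ jk, (V2 jk : Set T)) ∩ ⋂ j, (V3 j : Set T)
  have hU : IsOpen U := (V1.2.inter (isOpen_iInter_of_finite fun jk => (V2 jk).2)).inter
    (isOpen_iInter_of_finite fun j => (V3 j).2)
  refine ⟨⟨U, hU⟩, ι, hfin, W, ⟨η, ⟨hV1, Set.mem_iInter.2 hV2⟩, Set.mem_iInter.2 g3⟩, hWc,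
    fun Ω _ _ g hg P p s hP => ?_⟩
  obtain ⟨⟨u1, u2⟩, u3⟩ := hg
  have hpt : ∀ x : P, q (p x) = g (IsLocalRing.closedPoint Ω) := fun x => by
    rw [← Scheme.Hom.comp_apply, hP.w, Scheme.Hom.comp_apply]
    exact congrArg g (Subsingleton.elim (α := PrimeSpectrum Ω) _ _)
  refine ⟨fun j => hV3' j Ω g (Set.mem_iInter.1 u3 j) P p s hP, ?_, fun j k hjk => ?_⟩
  · rw [Set.eq_univ_iff_forall]
    intro x
    by_contra hx
    refine hV1' u1 ⟨p x, fun h => hx ?_, hpt x⟩
    obtain ⟨j, hj⟩ := Set.mem_iUnion.1 h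
    exact Set.mem_iUnion.2 ⟨j, hj⟩
  · by_contra hne
    obtain ⟨y, hy, e⟩ := hV2' (j, k) hne (Set.mem_iInter.1 u2 (j, k))
    obtain ⟨x, hx, -⟩ := Scheme.exists_preimage_of_isPullback hP y (IsLocalRing.closedPoint Ω) e
    have h5 : x ∈ p ⁻¹' W j := by
      change p x ∈ W j
      rw [hx]; exact hy.1
    have h6 : p x ∈ W k := hjk h5
    rw [hx] at h6
    exact hy.2 h6

end Open

/-- After a base change of finite type, generic on the base, the irreducible components of the
geometric fibres spread out. -/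
theorem exists_gc {Y T : Scheme.{u}} (q : Y ⟶ T) [IsIntegral T] [IsNoetherian T]
    [LocallyOfFiniteType q] [QuasiCompact q] :
    ∃ (T' : Scheme.{u}) (h : T' ⟶ T) (_ : IsIntegral T') (_ : IsNoetherian T')
      (_ : LocallyOfFiniteType h) (ι : Type u) (_ : Finite ι) (W : ι → Set ↥(pullback q h)),
      h (genericPoint T') = genericPoint T ∧ IsGC (pullback.snd q h) W := by
  obtain ⟨V, T₁, e, hT₁, hV, haff, hsurj, hfin, het, hcomp⟩ := Groth.Agent.S1357.result q
  have hVn : IsNoetherian (V : Scheme.{u}) := K342.Dich.isNoetherian_opens V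
  have hred : IsReduced T₁ := K342.EtRed.isReduced_of_etale e
  have hint : IsIntegral T₁ := isIntegral_of_irreducibleSpace_of_isReduced _
  have hln : IsLocallyNoetherian T₁ := LocallyOfFiniteType.isLocallyNoetherian e
  have hn : IsNoetherian T₁ := {}
  have hq1 : LocallyOfFiniteType (pullback.snd q (e ≫ V.ι)) := inferInstance
  obtain ⟨V₁, ι, hι, W, hV₁, hWc, hW⟩ := exists_open (pullback.snd q (e ≫ V.ι)) hcomp
  have hne : Nonempty V₁ := by
    obtain ⟨y, hy⟩ := hV₁
    exact ⟨⟨y, hy⟩⟩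
  have hV₁i : IsIntegral (V₁ : Scheme.{u}) := inferInstance
  have hV₁n : IsNoetherian (V₁ : Scheme.{u}) := K342.Dich.isNoetherian_opens V₁
  let h : (V₁ : Scheme.{u}) ⟶ T := V₁.ι ≫ e ≫ V.ι
  -- the pull-back square over `V₁ ⟶ T₁`
  let a : pullback q h ⟶ pullback q (e ≫ V.ι) :=
    pullback.lift (pullback.fst q h) (pullback.snd q h ≫ V₁.ι) (by
      rw [pullback.condition, Category.assoc])
  have ha1 : a ≫ pullback.fst q (e ≫ V.ι) = pullback.fst q h := pullback.lift_fst _ _ _
  have ha2 : a ≫ pullback.snd q (e ≫ V.ι) = pullback.snd q h ≫ V₁.ι := pullback.lift_snd _ _ _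
  have sq : IsPullback a (pullback.snd q h) (pullback.snd q (e ≫ V.ι)) V₁.ι := by
    refine IsPullback.of_right (h₁₂ := pullback.fst q (e ≫ V.ι)) (h₂₂ := e ≫ V.ι) (v₁₃ := q) ?_ ha2
      (IsPullback.of_hasPullback q (e ≫ V.ι))
    rw [ha1]
    exact IsPullback.of_hasPullback q h
  refine ⟨V₁, h, hV₁i, hV₁n, inferInstance, ι, hι, fun j => a ⁻¹' W j, ?_,
    fun j => (hWc j).preimage a.continuous, fun Ω _ _ g P p s hP => ?_⟩
  · -- generic point
    have h1 : V₁.ι (genericPoint V₁) = genericPoint T₁ := genericPoint_eq_of_isOpenImmersion V₁.ι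
    have hneV : Nonempty V := by
      obtain ⟨y, hy⟩ := hV
      exact ⟨⟨y, hy⟩⟩
    have h3 : V.ι (genericPoint V) = genericPoint T := genericPoint_eq_of_isOpenImmersion V.ι
    have h2 : e (genericPoint T₁) = genericPoint V := by
      have h4 : IsGenericPoint (e (genericPoint T₁)) (closure (Set.range e)) := by
        have h5 := (genericPoint_spec T₁).image e.continuous
        rwa [Set.image_univ] at h5
      rw [hsurj.1.range_eq, closure_univ] at h4
      exact h4.eq (genericPoint_spec V)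
    rw [Scheme.Hom.comp_apply, Scheme.Hom.comp_apply, h1, h2, h3]
  · have h5 := hW Ω (g ≫ V₁.ι) (g _).2 P (p ≫ a) s (hP.flip.paste_vert sq.flip).flip
    have e' : ∀ S : Set ↥(pullback q (e ≫ V.ι)), (p ≫ a) ⁻¹' S = p ⁻¹' (a ⁻¹' S) := fun S => by
      ext x; simp
    refine ⟨fun j => ?_, ?_, fun j k hjk => ?_⟩
    · rw [← e']; exact h5.irr j
    · simpa only [e'] using h5.cover
    · exact h5.inj j k (by rw [e', e']; exact hjk)

end K342.GComp
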