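import Groth.Agent.SSMod.K342.Dich
import Groth.Agent.Ega43.LocusProper
import Groth.Agent.S1333
import Groth.Agent.S1025
import Groth.Agent.S7834
import Groth.Agent.S0023
import Groth.Agent.CurvesA.CSpecGenus
import Groth.Agent.SGA3.K209.GenSys
import Groth.Agent.ConsPropPair.K286.Desc
import Groth.Agent.ConsProp.K285.DimField
import Groth.Agent.Ega3B.ProjProper
import Groth.Agent.Models.H58.P1Model
import Groth.Agent.Sga3C.GeomRedPerf
import Groth.Agent.Fdesc.GeomAlgClosed
import Groth.Agent.Lefpen.H717.ProjIrr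

/-!
# Being a projective line is generically constant in flat families of integral schemes
-/

set_option autoImplicit false
set_option linter.unusedSectionVars false
set_option linter.unusedVariables false
set_option linter.style.haveILetI false
universe u
open CategoryTheory AlgebraicGeometry CategoryTheory.Limits Topology TopologicalSpace

namespace K342.P1Locus

open K342.Dich Groth.Agent Groth.Agent.Ega43.Locus

/-- A scheme over `Ω` isomorphic to the projective line. -/
def IsP1 (Ω : Type u) [Field Ω] {P : Scheme.{u}} (s : P ⟶ Spec (CommRingCat.of Ω)) : Prop :=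
  ∃ e : CohB1.ProjSpace 1 Ω ⟶ P, IsIso e ∧ e ≫ s = CohB1.ProjSpace.toSpec 1 Ω

theorem IsP1.of_iso {Ω : Type u} [Field Ω] {P P' : Scheme.{u}} {s : P ⟶ Spec (CommRingCat.of Ω)}
    {s' : P' ⟶ Spec (CommRingCat.of Ω)} (h : IsP1 Ω s) (e : P ⟶ P') [IsIso e] (he : e ≫ s' = s) :
    IsP1 Ω s' := by
  obtain ⟨a, ha, h1⟩ := h
  exact ⟨a ≫ e, inferInstance, by rw [Category.assoc, he, h1]⟩

theorem isP1_iff_of_iso {Ω : Type u} [Field Ω] {P P' : Scheme.{u}}
    {s : P ⟶ Spec (CommRingCat.of Ω)} {s' : P' ⟶ Spec (CommRingCat.of Ω)} (e : P ≅ P')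
    (he : e.hom ≫ s' = s) : IsP1 Ω s ↔ IsP1 Ω s' :=
  ⟨fun h => h.of_iso e.hom he, fun h => h.of_iso e.inv (by rw [← he, e.inv_hom_id_assoc])⟩

theorem IsP1.isProper {Ω : Type u} [Field Ω] {P : Scheme.{u}} {s : P ⟶ Spec (CommRingCat.of Ω)}
    (h : IsP1 Ω s) : IsProper s := by
  obtain ⟨a, ha, h1⟩ := h
  have h2 : s = inv a ≫ CohB1.ProjSpace.toSpec 1 Ω := by rw [← h1, IsIso.inv_hom_id_assoc]
  have := Ega3B.ProjProper.isProper_toSpec 1 Ω
  rw [h2]
  infer_instance

/-- The numerical criterion. -/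
theorem isP1_iff {Ω : Type u} [Field Ω] [IsAlgClosed Ω] {P : Scheme.{u}}
    (s : P ⟶ Spec (CommRingCat.of Ω)) [IsProper s] [IsIntegral P] :
    IsP1 Ω s ↔ topologicalKrullDim P = 1 ∧
      (letI : P.Over (Spec (CommRingCat.of Ω)) := ⟨s⟩; Curv2.genus Ω P = 0) := by
  letI : P.Over (Spec (CommRingCat.of Ω)) := ⟨s⟩
  have hs : IsProper (P ↘ Spec (CommRingCat.of Ω)) := ‹IsProper s›
  constructor
  · rintro ⟨e, he, h1⟩
    letI : (CohB1.ProjSpace 1 Ω).Over (Spec (CommRingCat.of Ω)) := ⟨CohB1.ProjSpace.toSpec 1 Ω⟩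
    refine ⟨?_, ?_⟩
    · rw [← Models.H58.P1Model.topologicalKrullDim_P1 Ω]
      exact ((Scheme.homeoOfIso (asIso e)).isHomeomorph.topologicalKrullDim_eq).symm
    · have h2 : IsPullback e (CohB1.ProjSpace 1 Ω ↘ Spec (CommRingCat.of Ω))
          (P ↘ Spec (CommRingCat.of Ω))
          (Spec.map (CommRingCat.ofHom (algebraMap Ω Ω))) := by
        have h3 : Spec.map (CommRingCat.ofHom (algebraMap Ω Ω)) = 𝟙 _ := Spec.map_id _
        rw [h3]
        exact IsPullback.of_horiz_isIso ⟨by rw [Category.comp_id]; exact h1⟩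
      have h4 := S0223.finrank_eq Ω P Ω (CohB1.ProjSpace 1 Ω) e h2 1
      have h5 : Subsingleton (Coh.HH (CohB1.ProjSpace 1 Ω) (Coh.structureModule _) 1) :=
        S0023.result 1 Ω 1 Nat.one_pos
      have h6 := Module.finrank_zero_of_subsingleton (R := Ω)
        (M := Coh.HH (CohB1.ProjSpace 1 Ω) (Coh.structureModule _) 1)
      exact h4.symm.trans h6
  · rintro ⟨h1, h2⟩
    have hr : GeometricallyReduced (P ↘ Spec (CommRingCat.of Ω)) :=
      Sga3C.GeomRedPerf.geometricallyReduced_of_isReduced _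
    have hi : GeometricallyIrreducible (P ↘ Spec (CommRingCat.of Ω)) :=
      Fdesc.GeomAlgClosed.geometricallyIrreducible_of_irreducibleSpace _
    have hg : GeometricallyIntegral (P ↘ Spec (CommRingCat.of Ω)) :=
      .of_geometricallyReduced_of_geometricallyIrreducible _
    obtain ⟨e, he⟩ := S7834.result Ω P h1 h2
    have he' : e.hom ≫ CohB1.ProjSpace.toSpec 1 Ω = s := he
    exact ⟨e.inv, inferInstance, by rw [← he', e.inv_hom_id_assoc]⟩

section

variable {X T : Scheme.{u}} (π : X ⟶ T)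

/-- The dimension of a geometric fibre. -/
theorem dim_geometric [LocallyOfFiniteType π] (Ω : Type u) [Field Ω]
    (g : Spec (CommRingCat.of Ω) ⟶ T) :
    topologicalKrullDim ↥(pullback π g) =
      topologicalKrullDim ↥(π.fiber (g (IsLocalRing.closedPoint Ω))) := by
  let t : T := g (IsLocalRing.closedPoint Ω)
  let ψ : T.residueField t ⟶ CommRingCat.of Ω := Scheme.descResidueField (Scheme.stalkClosedPointTo g)
  have hψ : Spec.map ψ ≫ T.fromSpecResidueField t = g :=
    Scheme.descResidueField_stalkClosedPointTo_fromSpecResidueField Ω T g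
  have h1 : IsPullback (π.fiberι t) (π.fiberToSpecResidueField t) π (T.fromSpecResidueField t) :=
    IsPullback.of_hasPullback _ _
  have h2 : pullback.fst π g ≫ π = (pullback.snd π g ≫ Spec.map ψ) ≫ T.fromSpecResidueField t := by
    rw [Category.assoc, hψ, pullback.condition]
  have hpb' : IsPullback (h1.lift _ _ h2) (pullback.snd π g) (π.fiberToSpecResidueField t)
      (Spec.map ψ) := by
    refine IsPullback.of_right ?_ (h1.lift_snd _ _ _) h1
    rw [h1.lift_fst, hψ]
    exact IsPullback.of_hasPullback _ _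
  have hlt : LocallyOfFiniteType (π.fiberToSpecResidueField t) :=
    MorphismProperty.pullback_snd _ _ inferInstance
  have i1 : IsIntegral (Spec (T.residueField t)) := inferInstance
  have i2 : Subsingleton (Spec (T.residueField t)) :=
    inferInstanceAs (Subsingleton (PrimeSpectrum (T.residueField t)))
  have i3 : Subsingleton (Spec (CommRingCat.of Ω)) := inferInstanceAs (Subsingleton (PrimeSpectrum Ω))
  exact K285.DimField.topologicalKrullDim_eq _ _ _ _ hpb'

/-- The proper case. -/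
theorem dich_isP1_of_proper [IsProper π] [Flat π] [IsNoetherian T] [IrreducibleSpace T]
    (V : T.Opens) (hV : (V : Set T).Nonempty)
    (hint : ∀ (Ω : Type u) [Field Ω] [IsAlgClosed Ω] (g : Spec (CommRingCat.of Ω) ⟶ T),
      g (IsLocalRing.closedPoint Ω) ∈ V → IsIntegral (pullback π g)) :
    Dich T (fun Ω _ _ g => IsP1 Ω (pullback.snd π g)) := by
  have hfp : LocallyOfFinitePresentation π :=
    LocallyOfFinitePresentation.iff_locallyOfFiniteType.2 inferInstance
  have h1 : IsLocallyConstructible {t : T | topologicalKrullDim (π.fiber t) = 1} :=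
    S1333.result π 1
  have h2 : IsOpen {t : T | PerfAux.betti π (Coh.structureModule X) t 1 < 1} :=
    S1025.result π (Coh.structureModule X) PerfB.StructFlat.isFP_structure
      (PerfB.StructFlat.isFlatOver_structure π) 1 1
  have h3 : IsLocallyConstructible {t : T | PerfAux.betti π (Coh.structureModule X) t 1 < 1} :=
    isLC_of_isOpen h2
  refine (Dich.of_isLocallyConstructible (h1.inter h3)).congr_on V hV fun Ω _ _ g hg => ?_
  have hi := hint Ω g hg
  letI : (pullback π g).Over (Spec (CommRingCat.of Ω)) := ⟨pullback.snd π g⟩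
  have h4 := CurvesA.CSpecGenus.betti_eq π Ω g (pullback π g) (pullback.fst π g)
    (IsPullback.of_hasPullback π g) 1
  have h5 := isP1_iff (pullback.snd π g)
  rw [h5, dim_geometric]
  change (_ ∧ _) ↔ _
  refine and_congr Iff.rfl ?_
  change PerfAux.betti π (Coh.structureModule X) (g (IsLocalRing.closedPoint Ω)) 1 < 1 ↔ _
  rw [h4, Nat.lt_one_iff]
  rfl

/-- A proper generic fibre spreads out. -/
theorem exists_open_proper [IsIntegral T] [LocallyOfFinitePresentation π] [QuasiCompact π]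
    [QuasiSeparated π]
    (h : IsProper (pullback.snd π (T.fromSpecResidueField (genericPoint T)))) :
    ∃ U : T.Opens, (U : Set T).Nonempty ∧ IsProper (π ∣_ U) := by
  obtain ⟨𝒮⟩ := K209.GenSys.exists_sys T
  obtain ⟨j, hj⟩ := K286.Desc.descendsLim_isProper 𝒮.E 𝒮.cone 𝒮.lim 𝒮.t (fun φ => 𝒮.w φ) π
    (T.fromSpecResidueField (genericPoint T)) (fun j => 𝒮.fac j) _ _
    (IsPullback.of_hasPullback π (T.fromSpecResidueField (genericPoint T))) h
  refine ⟨(𝒮.t j).opensRange, ⟨genericPoint T, ?_⟩, ?_⟩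
  · obtain ⟨s⟩ : Nonempty (Spec (T.residueField (genericPoint T))) := inferInstance
    refine ⟨𝒮.π.app j s, ?_⟩
    rw [← Scheme.Hom.comp_apply, 𝒮.fac j]
    have h1 : T.fromSpecResidueField (genericPoint T) s ∈
      Set.range (T.fromSpecResidueField (genericPoint T)) := ⟨s, rfl⟩
    rwa [Scheme.range_fromSpecResidueField] at h1
  · let U := (𝒮.t j).opensRange
    let l : (U : Scheme.{u}) ⟶ 𝒮.E.obj j := IsOpenImmersion.lift (𝒮.t j) U.ι (by
      rw [Scheme.Opens.range_ι]; rfl)
    have hl : l ≫ 𝒮.t j = U.ι := IsOpenImmersion.lift_fac _ _ _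
    have h1 : IsPullback (π ⁻¹ᵁ U).ι (π ∣_ U) π (l ≫ 𝒮.t j) := by
      rw [hl]; exact (isPullback_morphismRestrict π U).flip
    have h2 : IsPullback (pullback.lift (π ⁻¹ᵁ U).ι ((π ∣_ U) ≫ l)
        (by rw [Category.assoc, h1.w])) (π ∣_ U) (pullback.snd π (𝒮.t j)) l := by
      refine IsPullback.of_right (h₁₂ := pullback.fst π (𝒮.t j)) (h₂₂ := 𝒮.t j) (v₁₃ := π) ?_
        (pullback.lift_snd _ _ _) (.of_hasPullback _ _)
      rw [pullback.lift_fst]
      exact h1
    exact MorphismProperty.of_isPullback (P := @IsProper) h2 hj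

/-- Lifting a base change square to an open subscheme of the base. -/
theorem exists_restrict (V : T.Opens) {Ω : Type u} [Field Ω] [IsAlgClosed Ω]
    (g : Spec (CommRingCat.of Ω) ⟶ T) (hg : g (IsLocalRing.closedPoint Ω) ∈ V) {P : Scheme.{u}}
    {p : P ⟶ X} {s : P ⟶ Spec (CommRingCat.of Ω)} (h : IsPullback p s π g) :
    ∃ (g' : Spec (CommRingCat.of Ω) ⟶ V) (b : P ⟶ π ⁻¹ᵁ V), g' ≫ V.ι = g ∧
      IsPullback b s (π ∣_ V) g' ∧ b ≫ (π ⁻¹ᵁ V).ι = p := by
  obtain ⟨g', hg', -⟩ := K342.Dich.exists_lift V.ι g (t' := ⟨_, hg⟩) rfl ⊤ trivial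
  have sq3 := (isPullback_morphismRestrict π V).flip
  have hw : p ≫ π = (s ≫ g') ≫ V.ι := by rw [Category.assoc, hg', h.w]
  refine ⟨g', sq3.lift p (s ≫ g') hw, hg', ?_, sq3.lift_fst _ _ _⟩
  refine IsPullback.of_right (h₁₂ := (π ⁻¹ᵁ V).ι) (h₂₂ := V.ι) (v₁₃ := π) ?_
    (sq3.lift_snd _ _ _) sq3
  rw [sq3.lift_fst, hg']
  exact h

/-- Being a projective line is generically constant. -/
theorem dich_isP1 [LocallyOfFiniteType π] [QuasiCompact π] [Flat π] [IsNoetherian T]
    [IsIntegral T] (V : T.Opens) (hV : (V : Set T).Nonempty)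
    (hint : ∀ (Ω : Type u) [Field Ω] [IsAlgClosed Ω] (g : Spec (CommRingCat.of Ω) ⟶ T),
      g (IsLocalRing.closedPoint Ω) ∈ V → IsIntegral (pullback π g)) :
    Dich T (fun Ω _ _ g => IsP1 Ω (pullback.snd π g)) := by
  have hfp : LocallyOfFinitePresentation π :=
    LocallyOfFinitePresentation.iff_locallyOfFiniteType.2 inferInstance
  have hXn : IsLocallyNoetherian X := LocallyOfFiniteType.isLocallyNoetherian π
  have hqs : QuasiSeparated π := inferInstance
  have hP : FpqcInv @IsProper.{u} := Ega43.LocusSep.fpqcInv_isProper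
  have hmem : ∀ (Ω : Type u) [Field Ω] (g : Spec (CommRingCat.of Ω) ⟶ T),
      g (IsLocalRing.closedPoint Ω) ∈ locus @IsProper π (𝟙 T) ↔ IsProper (pullback.snd π g) := by
    intro Ω _ g
    have hY : IsPullback g (𝟙 _) (𝟙 T) g := IsPullback.of_vert_isIso ⟨by simp⟩
    exact mem_locus_iff_of_field hP hY (IsPullback.of_hasPullback π g)
  have hE : IsLocallyConstructible (locus @IsProper π (𝟙 T)) :=
    Ega43.LocusProper.isLocallyConstructible_locus_isProper π (𝟙 T)
      ⟨inferInstance, inferInstance, inferInstance⟩ ⟨inferInstance, inferInstance, inferInstance⟩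
  by_cases hη : genericPoint T ∈ locus @IsProper π (𝟙 T)
  · have hY : IsPullback (T.fromSpecResidueField (genericPoint T)) (𝟙 _) (𝟙 T)
      (T.fromSpecResidueField (genericPoint T)) := IsPullback.of_vert_isIso ⟨by simp⟩
    have h1 := (mem_locus_iff_of_isPullback hY (IsPullback.of_hasPullback π
      (T.fromSpecResidueField (genericPoint T)))).1 hη
    obtain ⟨U, hU, hUp⟩ := exists_open_proper π h1
    refine Dich.of_open U hU ?_
    have hUne : Nonempty U := by
      obtain ⟨y, hy⟩ := hU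
      exact ⟨⟨y, hy⟩⟩
    have hUn : IsNoetherian (U : Scheme.{u}) := isNoetherian_opens U
    have hVU : ((U.ι ⁻¹ᵁ V : (U : Scheme.{u}).Opens) : Set U).Nonempty := by
      obtain ⟨y, hy1, hy2⟩ := inter_nonempty hU hV
      exact ⟨⟨y, hy1⟩, hy2⟩
    have h2 := dich_isP1_of_proper (π ∣_ U) (U.ι ⁻¹ᵁ V) hVU (fun Ω _ _ g hg => by
      have h3 : IsPullback (pullback.fst (π ∣_ U) g ≫ (π ⁻¹ᵁ U).ι) (pullback.snd (π ∣_ U) g) π
          (g ≫ U.ι) :=
        ((IsPullback.of_hasPullback (π ∣_ U) g).flip.paste_vert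
          (isPullback_morphismRestrict π U)).flip
      have h4 := hint Ω (g ≫ U.ι) hg
      have e := h3.isoPullback
      have hne : Nonempty ↥(pullback (π ∣_ U) g) := ⟨e.inv h4.nonempty.some⟩
      exact isIntegral_of_isOpenImmersion e.hom)
    refine h2.congr fun Ω _ _ g => ?_
    have h3 : IsPullback (pullback.fst (π ∣_ U) g ≫ (π ⁻¹ᵁ U).ι) (pullback.snd (π ∣_ U) g) π
        (g ≫ U.ι) :=
      ((IsPullback.of_hasPullback (π ∣_ U) g).flip.paste_vert
        (isPullback_morphismRestrict π U)).flip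
    exact isP1_iff_of_iso h3.isoPullback (h3.isoPullback_hom_snd)
  · have hη' : genericPoint T ∈ interior (locus @IsProper π (𝟙 T))ᶜ :=
      K285.Elem.genericPoint_mem_interior ((S3402.result T _).1
        (Ega43.LocusElem.isLocallyConstructible_compl hE)).1 hη
    refine ⟨⟨interior (locus @IsProper π (𝟙 T))ᶜ, isOpen_interior⟩, ⟨_, hη'⟩,
      Or.inr fun Ω _ _ g hg hP1 => ?_⟩
    exact interior_subset hg ((hmem Ω g).2 hP1.isProper)

end

end K342.P1Locus
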