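import Groth.Agent.SSMod.K342.Fib
import Groth.Agent.Lim8.K115.Cons

/-!
# Base change and passage to the limit for the locus `E`
-/

set_option autoImplicit false
set_option linter.unusedVariables false
universe u
open CategoryTheory AlgebraicGeometry CategoryTheory.Limits Topology TopologicalSpace

namespace K342.PreE

open K342.Dich K342.Dat K342.FlatDich K342.Model K342.Cons

variable {S S' : Scheme.{u}}

/-- Transport of a base change along an equality of the underlying map. -/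
theorem BC.cast {t t' : S' ⟶ S} (h : t = t') {d' : Dat S'} {d : Dat S} (e : BC t d' d) :
    Nonempty (BC t' d' d) := by
  subst h
  exact ⟨e⟩

/-- The locus commutes with arbitrary base change. -/
theorem preimage_E {t : S' ⟶ S} {d : Dat S} {d' : Dat S'} (e : BC t d' d) (hd : FPres d)
    (hp : IsProper d.f) (hcl : IsClosedImmersion d.i) : t ⁻¹' E d = E d' := by
  ext x
  obtain ⟨V, hV, hxV, -⟩ := exists_isAffineOpen_mem_and_subset (U := (⊤ : S.Opens)) (x := t x)
    trivial
  let j : Spec Γ(S, V) ⟶ S := hV.fromSpec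
  have hj : Set.range j = (V : Set S) := hV.range_fromSpec
  let ej := d.bcBC j
  have hp' : IsProper (d.bc j).f := MorphismProperty.of_isPullback ej.sqY hp
  have hcl' : IsClosedImmersion (d.bc j).i := MorphismProperty.of_isPullback ej.sqD hcl
  obtain ⟨A₀, hA₀, τ, d₀, h1, ⟨e₀⟩⟩ := exists_model _ (d.bc j) (hd.bc ej) hp' hcl'
  let V' : S'.Opens := t ⁻¹ᵁ V
  have hr : Set.range (V'.ι ≫ t) ⊆ Set.range j := by
    rw [hj]
    rintro _ ⟨y, rfl⟩
    rw [Scheme.Hom.comp_apply]
    exact y.2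
  let t' : (V' : Scheme.{u}) ⟶ Spec Γ(S, V) := IsOpenImmersion.lift j (V'.ι ≫ t) hr
  have ht' : t' ≫ j = V'.ι ≫ t := IsOpenImmersion.lift_fac _ _ _
  let ei := d'.bcBC V'.ι
  obtain ⟨E1⟩ := BC.cast ht'.symm (ei.comp e)
  obtain ⟨e2, -⟩ := ej.exists_lift E1
  have h2 : (t' ≫ τ) ⁻¹' E d₀ = E (d'.bc V'.ι) := K342.Cons.preimage_E d₀ h1 (e2.comp e₀)
  have h3 : τ ⁻¹' E d₀ = E (d.bc j) := K342.Cons.preimage_E d₀ h1 e₀
  have h4 : V'.ι ⁻¹' E d' = E (d'.bc V'.ι) := preimage_E_of_isOpenImmersion d' V'.ι ei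
  have h5 : j ⁻¹' E d = E (d.bc j) := preimage_E_of_isOpenImmersion d j ej
  have hx : ∃ x' : (V' : Scheme.{u}), V'.ι x' = x := ⟨⟨x, hxV⟩, rfl⟩
  obtain ⟨x', rfl⟩ := hx
  have h6 : t (V'.ι x') = j (t' x') := by
    rw [← Scheme.Hom.comp_apply, ← Scheme.Hom.comp_apply, ht']
  have h7 : (t' x') ∈ j ⁻¹' E d ↔ x' ∈ V'.ι ⁻¹' E d' := by
    rw [h5, h4, ← h3, ← h2]
    simp only [Set.mem_preimage, Scheme.Hom.comp_apply]
  rw [Set.mem_preimage, h6]
  exact h7

/-- The locus is constructible over a quasi-compact and quasi-separated base. -/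
theorem isConstructible_E [CompactSpace S] [QuasiSeparatedSpace S] (d : Dat S) (hd : FPres d)
    (hp : IsProper d.f) (hcl : IsClosedImmersion d.i) : IsConstructible (E d) :=
  (isLocallyConstructible_E d hd hp hcl).isConstructible

section

variable {I : Type u} [SmallCategory I] [IsCofiltered I]
  (D : I ⥤ Scheme.{u}) (c : Cone D) (hc : IsLimit c) [∀ (i j : I) (f : i ⟶ j), IsAffineHom (D.map f)]

include hc in
/-- If the condition holds at all points of the limit, it holds at all points of some stage. -/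
theorem exists_stage_E (i₀ : I) [CompactSpace (D.obj i₀)] [QuasiSeparatedSpace (D.obj i₀)]
    (d : Dat (D.obj i₀)) (hd : FPres d) (hp : IsProper d.f) (hcl : IsClosedImmersion d.i)
    (h : ∀ x : c.pt, c.π.app i₀ x ∈ E d) :
    ∃ (i : I) (φ : i ⟶ i₀), ∀ x : D.obj i, D.map φ x ∈ E d := by
  obtain ⟨i, φ, hφ⟩ := K115.Cons.exists_preimage_eq_preimage D c hc i₀ Set.univ (E d)
    IsConstructible.univ (isConstructible_E d hd hp hcl) (by
      rw [Set.preimage_univ]
      exact (Set.eq_univ_of_forall h).symm)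
  refine ⟨i, φ, fun x => ?_⟩
  have hx : x ∈ (⇑(D.map φ) ⁻¹' Set.univ : Set (D.obj i)) := trivial
  rw [hφ] at hx
  exact hx

end

end K342.PreE
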